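import Cfsg.Agent.Lib.AltCover.Anti
import Mathlib.GroupTheory.SpecificGroups.Alternating.Centralizer

/-!
Signs in the double covers of the alternating groups.
-/

set_option autoImplicit false
set_option linter.unusedSectionVars false

namespace CfsgAltCentInv

open Equiv Subgroup
open CfsgAltCover.Anti (IsCover conj_pair)

variable {E : Type*} [Group E] [Finite E] {n : ℕ}

/-- A double cover of the alternating group of degree `n`, with its central involution. -/
structure Cov (π : E →* Perm (Fin n)) (z : E) : Prop where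
  five : 5 ≤ n
  cover : IsCover π
  ker : ∀ g, π g = 1 ↔ g = 1 ∨ g = z
  ne : z ≠ 1

theorem exists_cov (hn : 5 ≤ n) (h : Cfsg.IsNonsplitDoubleCover E ↥(alternatingGroup (Fin n))) :
    ∃ π : E →* Perm (Fin n), ∃ z : E, Cov π z ∧ π.ker = center E := by
  classical
  obtain ⟨h2, ⟨e⟩, hns⟩ := h
  let π : E →* Perm (Fin n) :=
    (alternatingGroup (Fin n)).subtype.comp (e.toMonoidHom.comp (QuotientGroup.mk' (center E)))
  have hker : π.ker = center E := by
    ext g
    rw [MonoidHom.mem_ker]
    constructor
    · intro hg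
      have : e (QuotientGroup.mk' (center E) g) = 1 := Subtype.ext hg
      exact (QuotientGroup.eq_one_iff g).mp ((map_eq_one_iff e e.injective).mp this)
    · intro hg
      show ((e (QuotientGroup.mk' (center E) g) : alternatingGroup (Fin n)) : Perm (Fin n)) = 1
      rw [show QuotientGroup.mk' (center E) g = 1 from (QuotientGroup.eq_one_iff g).mpr hg, map_one]
      rfl
  obtain ⟨z, hz, hall⟩ := (Nat.card_eq_two_iff' (1 : center E)).mp h2
  have hz2 : ∀ g, π g = 1 ↔ g = 1 ∨ g = z := fun g => by
    rw [← MonoidHom.mem_ker, hker]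
    constructor
    · intro hg
      by_cases h1 : g = 1
      · exact Or.inl h1
      · exact Or.inr (congrArg Subtype.val (hall ⟨g, hg⟩ fun h => h1 (congrArg Subtype.val h)))
    · rintro (rfl | rfl)
      exacts [one_mem _, z.2]
  have hev : ∀ g, Perm.sign (π g) = 1 := fun g =>
    Perm.mem_alternatingGroup.mp (e (QuotientGroup.mk' (center E) g)).2
  have honto : ∀ σ : Perm (Fin n), Perm.sign σ = 1 → ∃ g, π g = σ := fun σ hσ => by
    obtain ⟨g, hg⟩ := QuotientGroup.mk'_surjective (center E) (e.symm ⟨σ, Perm.mem_alternatingGroup.mpr hσ⟩)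
    exact ⟨g, by show ((e (QuotientGroup.mk' (center E) g)) : Perm (Fin n)) = σ; rw [hg, e.apply_symm_apply]⟩
  have hperf : commutator E = ⊤ := by
    let f : E →* alternatingGroup (Fin n) := e.toMonoidHom.comp (QuotientGroup.mk' (center E))
    have hf : Function.Surjective f := e.surjective.comp (QuotientGroup.mk'_surjective _)
    have hmap : (commutator E).map f = ⊤ := by
      rw [_root_.commutator_def, Subgroup.map_commutator, Subgroup.map_top_of_surjective f hf, ← _root_.commutator_def]
      exact commutator_alternatingGroup_eq_top (by rw [Nat.card_fin]; exact hn)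
    have hsup : center E ⊔ commutator E = ⊤ := by
      refine eq_top_iff.mpr fun g _ => ?_
      obtain ⟨s, hs, e'⟩ := (hmap ▸ Subgroup.mem_top (f g) : f g ∈ (commutator E).map f)
      have : g * s⁻¹ ∈ center E := by
        rw [← hker, MonoidHom.mem_ker, map_mul, map_inv, mul_inv_eq_one]
        exact congrArg Subtype.val e'.symm
      simpa using Subgroup.mul_mem_sup this hs
    by_cases hzc : (z : E) ∈ commutator E
    · rw [← hsup, eq_comm, sup_eq_right]
      intro c hc
      rcases (hz2 c).mp (by rw [← MonoidHom.mem_ker, hker]; exact hc) with rfl | rfl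
      exacts [one_mem _, hzc]
    · refine absurd (Subgroup.isComplement'_of_disjoint_and_mul_eq_univ ?_ ?_) (hns (commutator E))
      · rw [Subgroup.disjoint_def]
        intro x hx hxS
        rcases (hz2 x).mp (by rw [← MonoidHom.mem_ker, hker]; exact hx) with h1 | h1
        exacts [h1, absurd (h1 ▸ hxS) hzc]
      · rw [← Subgroup.normal_mul, hsup, Subgroup.coe_top]
  exact ⟨π, z, ⟨hn, ⟨hperf, hker.le, by rw [hker, h2], hev, honto⟩, hz2, fun h => hz (Subtype.ext h)⟩, hker⟩

variable {π : E →* Perm (Fin n)} {z : E}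

theorem Cov.pi_z (h : Cov π z) : π z = 1 := (h.ker z).mpr (Or.inr rfl)

theorem Cov.z_cen (h : Cov π z) (g : E) : g * z = z * g := h.cover.cen h.pi_z g

theorem Cov.z_comm (h : Cov π z) (g : E) : Commute z g := (h.z_cen g).symm

theorem Cov.z_sq (h : Cov π z) : z * z = 1 := h.cover.sq h.pi_z

theorem Cov.eq_or (h : Cov π z) {x y : E} (e : π x = π y) : x = y ∨ x = y * z := by
  rcases (h.ker (y⁻¹ * x)).mp (by rw [map_mul, map_inv, e, inv_mul_cancel]) with h1 | h1
  · exact Or.inl (inv_mul_eq_one.mp h1).symm
  · exact Or.inr (inv_mul_eq_iff_eq_mul.mp h1)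

theorem Cov.mul_z_ne (h : Cov π z) (x : E) : x * z ≠ x := fun e => h.ne (mul_eq_left.mp e)

/-- An element of odd order centralising the image centralises the lift. -/
theorem Cov.odd_commute (h : Cov π z) {x y : E} {m : ℕ} (hm : Odd m) (hx : π (x ^ m) = 1)
    (hc : Commute (π x) (π y)) : Commute x y := by
  rcases h.eq_or (x := x * y * x⁻¹) (y := y) (by rw [map_mul, map_mul, map_inv, hc.eq, mul_inv_cancel_right]) with e | e
  · exact mul_inv_eq_iff_eq_mul.mp e
  · exfalso
    have hk : ∀ k : ℕ, x ^ k * y * (x ^ k)⁻¹ = y * z ^ k := fun k => by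
      induction k with
      | zero => simp
      | succ k ih =>
        calc x ^ (k + 1) * y * (x ^ (k + 1))⁻¹ = x * (x ^ k * y * (x ^ k)⁻¹) * x⁻¹ := by rw [pow_succ']; group
          _ = x * y * x⁻¹ * (x * z ^ k * x⁻¹) := by rw [ih]; group
          _ = y * z ^ (k + 1) := by
            rw [e, ((h.z_comm x).pow_left k).symm.eq, mul_inv_cancel_right, mul_assoc, ← pow_succ']
    have h1 := hk m
    obtain ⟨j, rfl⟩ := hm
    rw [show x ^ (2 * j + 1) * y * (x ^ (2 * j + 1))⁻¹ = y by rw [← h.cover.cen hx y, mul_inv_cancel_right],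
      pow_succ, pow_mul, pow_two, h.z_sq, one_pow, one_mul] at h1
    exact h.mul_z_ne y h1.symm

/-- The product of two disjoint transpositions. -/
def dbl (a b c d : Fin n) : Perm (Fin n) := swap a b * swap c d

theorem sign_dbl {a b c d : Fin n} (h : [a, b, c, d].Nodup) : Perm.sign (dbl a b c d) = 1 := by
  simp at h
  rw [dbl, map_mul, Perm.sign_swap (by tauto), Perm.sign_swap (by tauto)]
  rfl

/-- All lifts of double transpositions square to the central involution. -/
theorem Cov.dbl_sq (h : Cov π z) {a b c d : Fin n} (hnd : [a, b, c, d].Nodup) {A : E}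
    (hA : π A = dbl a b c d) : A * A = z := by
  have hn : 4 ≤ n := by have := h.five; omega
  have hsq : ∀ p q r s : Fin n, [p, q, r, s].Nodup → ∀ P : E, π P = dbl p q r s → P * P = A * A := by
    intro p q r s h2 P hP
    obtain ⟨g, e1, e2, e3, e4⟩ := CfsgAltCover.Anti.exists_move hnd h2
    obtain ⟨g', hg's, hg'⟩ : ∃ g' : Perm (Fin n), Perm.sign g' = 1 ∧ g' * dbl a b c d * g'⁻¹ = dbl p q r s := by
      rcases Int.units_eq_one_or (Perm.sign g) with hs | hs
      · exact ⟨g, hs, by rw [dbl, conj_pair, e1, e2, e3, e4]; rfl⟩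
      · simp at hnd
        refine ⟨g * swap a b, by rw [map_mul, hs, Perm.sign_swap (by tauto)]; rfl, ?_⟩
        have f1 : swap a b c = c := swap_apply_of_ne_of_ne (fun e => by subst e; tauto) (fun e => by subst e; tauto)
        have f2 : swap a b d = d := swap_apply_of_ne_of_ne (fun e => by subst e; tauto) (fun e => by subst e; tauto)
        rw [dbl, conj_pair]
        simp [dbl, Perm.mul_apply, f1, f2, e1, e2, e3, e4, swap_comm q p]
    obtain ⟨K, hK⟩ := h.cover.onto g' hg's
    have hk : π (A * A) = 1 := by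
      rw [map_mul, hA, dbl]
      simp at hnd
      have hd : Perm.Disjoint (swap a b) (swap c d) := by
        rw [Perm.disjoint_iff_disjoint_support, Perm.support_swap (by tauto), Perm.support_swap (by tauto)]
        simp
        tauto
      rw [hd.commute.symm.mul_mul_mul_comm, swap_mul_self, swap_mul_self, one_mul]
    calc P * P = K * A * K⁻¹ * (K * A * K⁻¹) :=
          h.cover.sq_congr (by rw [hP, map_mul, map_mul, map_inv, hK, hA, hg'])
      _ = K * (A * A) * K⁻¹ := by group
      _ = A * A := by rw [h.cover.cen hk K, mul_inv_cancel_right]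
  simp at hnd
  obtain ⟨B, hB⟩ := h.cover.onto (swap a c * swap b d)
    (by rw [map_mul, Perm.sign_swap (by tauto), Perm.sign_swap (by tauto)]; rfl)
  have hnc : ¬ Commute A B := h.cover.not_commute hn (by simp; tauto) hA hB
  have hkk : π (A * A) = 1 := by
    rw [map_mul, hA, dbl]
    have hd : Perm.Disjoint (swap a b) (swap c d) := by
      rw [Perm.disjoint_iff_disjoint_support, Perm.support_swap (by tauto), Perm.support_swap (by tauto)]
      simp
      tauto
    rw [hd.commute.symm.mul_mul_mul_comm, swap_mul_self, swap_mul_self, one_mul]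
  rcases (h.ker _).mp hkk with h1 | h1
  · exfalso
    refine hnc ?_
    have hB1 : B * B = 1 := by rw [hsq a c b d (by simp; tauto) B hB, h1]
    have hp : π (A * B) = dbl a d b c := by
      rw [map_mul, hA, hB, dbl, dbl]
      ext w
      simp only [Perm.mul_apply]
      by_cases w1 : w = a
      · subst w1; simp [swap_apply_of_ne_of_ne, hnd, Ne.symm]
      by_cases w2 : w = b
      · subst w2; simp [swap_apply_of_ne_of_ne, hnd, Ne.symm]
      by_cases w3 : w = c
      · subst w3; simp [swap_apply_of_ne_of_ne, hnd, Ne.symm]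
      by_cases w4 : w = d
      · subst w4; simp [swap_apply_of_ne_of_ne, hnd, Ne.symm]
      simp [swap_apply_of_ne_of_ne, w1, w2, w3, w4]
    have hAB : A * B * (A * B) = 1 := by rw [hsq a d b c (by simp; tauto) _ hp, h1]
    have := inv_eq_of_mul_eq_one_right hAB
    rw [mul_inv_rev, inv_eq_of_mul_eq_one_right hB1, inv_eq_of_mul_eq_one_right h1] at this
    exact this.symm
  · exact h1

/-- Lifts of commuting double transpositions with a double transposition as product do not commute. -/
theorem Cov.anti (h : Cov π z) {A B : E} {a b c d p q r s : Fin n} (h1 : [a, b, c, d].Nodup)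
    (h2 : [p, q, r, s].Nodup) (hA : π A = dbl a b c d) (hB : π B = dbl p q r s) {u v w x : Fin n}
    (h3 : [u, v, w, x].Nodup) (hAB : dbl a b c d * dbl p q r s = dbl u v w x) : A * B * A⁻¹ = B * z := by
  have eA := h.dbl_sq h1 hA
  have eB := h.dbl_sq h2 hB
  have eAB := h.dbl_sq h3 (A := A * B) (by rw [map_mul, hA, hB, hAB])
  have e : A * B = B * A * z := by
    have h5 : A * (A * B * (A * B)) * B = A * z * B := by rw [eAB]
    have h6 : A * (A * B * (A * B)) * B = A * A * (B * A) * (B * B) := by group
    rw [h6, eA, eB] at h5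
    calc A * B = A * z * B * z := by
          rw [mul_assoc _ B z, h.z_cen B, ← mul_assoc, mul_assoc A z z, h.z_sq, mul_one]
      _ = z * (B * A) * z * z := by rw [h5]
      _ = z * (B * A) := by rw [mul_assoc _ z z, h.z_sq, mul_one]
      _ = B * A * z := (h.z_cen _).symm
  rw [e, mul_assoc (B * A), (h.z_comm A⁻¹).eq, ← mul_assoc, mul_inv_cancel_right]

/-- A lift of an even involution squares to the central involution to the number of its pairs of transpositions. -/
theorem Cov.invol_sq (h : Cov π z) : ∀ x : E, π x * π x = 1 →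
    4 ∣ (π x).support.card ∧ x * x = z ^ ((π x).support.card / 4) := by
  suffices key : ∀ (m : ℕ) (x : E), (π x).support.card = m → π x * π x = 1 →
      4 ∣ m ∧ x * x = z ^ (m / 4) from fun x hx => key _ x rfl hx
  intro m
  induction m using Nat.strong_induction_on with
  | _ m ih =>
    intro x hm hx
    rcases Nat.eq_zero_or_pos m with rfl | hpos
    · have : π x = 1 := Perm.support_eq_empty_iff.mp (Finset.card_eq_zero.mp hm)
      exact ⟨dvd_zero _, by rw [h.cover.sq this, Nat.zero_div, pow_zero]⟩
    obtain ⟨a, ha⟩ := Finset.card_pos.mp (hm ▸ hpos)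
    obtain ⟨τ, hτ⟩ : ∃ τ, τ = π x := ⟨_, rfl⟩
    rw [← hτ] at hx hm ha
    have hinv : ∀ w, τ (τ w) = w := fun w => by rw [← Perm.mul_apply, hx]; rfl
    have hab : τ a ≠ a := Perm.mem_support.mp ha
    obtain ⟨c, hc, hca, hcb⟩ : ∃ c, τ c ≠ c ∧ c ≠ a ∧ c ≠ τ a := by
      by_contra! hno
      have : τ = swap a (τ a) := by
        ext w
        by_cases w1 : w = a
        · rw [w1, swap_apply_left]
        by_cases w2 : w = τ a
        · rw [w2, hinv, swap_apply_right]
        rw [swap_apply_of_ne_of_ne w1 w2]
        by_contra hw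
        exact w2 (hno w (fun e => hw (congrArg Fin.val e)) w1)
      have hs := h.cover.even x
      rw [← hτ, this, Perm.sign_swap hab.symm] at hs
      exact absurd hs (by decide)
    have hcd : τ c ≠ a ∧ τ c ≠ τ a :=
      ⟨fun e => hcb (by rw [← e, hinv]), fun e => hca (τ.injective e)⟩
    have hnd : [a, τ a, c, τ c].Nodup := by
      simp [hab.symm, hca.symm, hcb.symm, hcd.1.symm, hcd.2.symm, hc.symm]
    obtain ⟨A, hA⟩ := h.cover.onto (dbl a (τ a) c (τ c)) (sign_dbl hnd)
    obtain ⟨P, hP⟩ : ∃ P, P = A * x := ⟨_, rfl⟩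
    have hAv : ∀ w, π A w = if w = a ∨ w = τ a ∨ w = c ∨ w = τ c then τ w else w := by
      intro w
      rw [hA, dbl, Perm.mul_apply]
      by_cases w1 : w = a
      · subst w1; simp [swap_apply_of_ne_of_ne hca.symm hcd.1.symm]
      by_cases w2 : w = τ a
      · subst w2; simp [swap_apply_of_ne_of_ne hcb.symm hcd.2.symm, hinv]
      by_cases w3 : w = c
      · subst w3; simp [swap_apply_of_ne_of_ne hcd.1 hcd.2]
      by_cases w4 : w = τ c
      · subst w4; simp [swap_apply_of_ne_of_ne hca hcb, hinv]
      simp [w1, w2, w3, w4, swap_apply_of_ne_of_ne]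
    have hPv : ∀ w, π P w = if w = a ∨ w = τ a ∨ w = c ∨ w = τ c then w else τ w := by
      intro w
      rw [hP, map_mul, Perm.mul_apply, ← hτ, hAv]
      by_cases hw : w = a ∨ w = τ a ∨ w = c ∨ w = τ c
      · rw [if_pos hw, if_pos ?_, hinv]
        rcases hw with rfl | rfl | rfl | rfl
        exacts [Or.inr (Or.inl rfl), Or.inl (hinv _), Or.inr (Or.inr (Or.inr rfl)), Or.inr (Or.inr (Or.inl (hinv _)))]
      · rw [if_neg hw, if_neg ?_]
        intro hw'
        refine hw ?_
        rcases hw' with e | e | e | e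
        · exact Or.inr (Or.inl (by rw [← e, hinv]))
        · exact Or.inl (τ.injective e)
        · exact Or.inr (Or.inr (Or.inr (by rw [← e, hinv])))
        · exact Or.inr (Or.inr (Or.inl (τ.injective e)))
    have hP2 : π P * π P = 1 := by
      ext w
      rw [Perm.mul_apply, hPv w]
      by_cases hw : w = a ∨ w = τ a ∨ w = c ∨ w = τ c
      · rw [if_pos hw, hPv, if_pos hw]; rfl
      · rw [if_neg hw, hPv, if_neg ?_, hinv]; · rfl
        intro hw'
        refine hw ?_
        rcases hw' with e | e | e | e
        · exact Or.inr (Or.inl (by rw [← e, hinv]))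
        · exact Or.inl (τ.injective e)
        · exact Or.inr (Or.inr (Or.inr (by rw [← e, hinv])))
        · exact Or.inr (Or.inr (Or.inl (τ.injective e)))
    have hsupp : (π P).support = τ.support \ {a, τ a, c, τ c} := by
      ext w
      simp only [Perm.mem_support, hPv, Finset.mem_sdiff, Finset.mem_insert, Finset.mem_singleton]
      by_cases hw : w = a ∨ w = τ a ∨ w = c ∨ w = τ c <;> simp [hw]
    have h4 : ({a, τ a, c, τ c} : Finset (Fin n)) ⊆ τ.support := by
      intro w hw
      simp only [Finset.mem_insert, Finset.mem_singleton] at hw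
      rw [Perm.mem_support]
      rcases hw with rfl | rfl | rfl | rfl
      exacts [hab, fun e => hab (τ.injective e), hc, fun e => hc (τ.injective e)]
    have hcard : (π P).support.card + 4 = m := by
      have h44 : ({a, τ a, c, τ c} : Finset (Fin n)).card = 4 := by
        simp [hab.symm, hca.symm, hcb.symm, hcd.1.symm, hcd.2.symm, hc.symm]
      rw [hsupp, Finset.card_sdiff_of_subset h4, h44, hm]
      have := Finset.card_le_card h4
      omega
    obtain ⟨hdiv, hsq⟩ := ih _ (by omega) P rfl hP2
    refine ⟨hcard ▸ (Nat.dvd_add hdiv dvd_rfl), ?_⟩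
    have hcomm : Commute A P := h.cover.commute_disjoint A (π P) (h.cover.even P) (fun w hw => by
      rw [hPv] at hw
      rw [hAv]
      by_cases hw' : w = a ∨ w = τ a ∨ w = c ∨ w = τ c
      · rw [if_pos hw'] at hw; exact absurd rfl hw
      · rw [if_neg hw']) P rfl
    have hA2 := h.dbl_sq hnd hA
    have hxA : x = A * P * z := by
      rw [hP, ← mul_assoc, hA2, h.z_cen, ← mul_assoc, h.z_sq, one_mul]
    rw [hxA, show A * P * z * (A * P * z) = A * P * (z * (A * P)) * z by group, ← h.z_cen,
      show A * P * (A * P * z) * z = A * P * (A * P) * (z * z) by group, h.z_sq, mul_one,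
      hcomm.symm.mul_mul_mul_comm, hA2, hsq, ← hcard, Nat.add_div_right _ (by norm_num : 0 < 4), pow_succ']

theorem Cov.four_dvd (h : Cov π z) (x : E) (hx : π x * π x = 1) (hx2 : x * x = 1) :
    8 ∣ (π x).support.card := by
  obtain ⟨⟨m, hm⟩, e⟩ := h.invol_sq x hx
  rw [hx2, hm, Nat.mul_div_cancel_left _ (by norm_num : 0 < 4)] at e
  rcases Nat.even_or_odd m with ⟨j, rfl⟩ | ⟨j, rfl⟩
  · exact ⟨j, by rw [hm]; ring⟩
  · rw [pow_succ, pow_mul, pow_two, h.z_sq, one_pow, one_mul] at e
    exact absurd e.symm h.ne

end CfsgAltCentInv
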