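import Cfsg.Agent.Lib.AltCentInv.Shape
import Mathlib.GroupTheory.Solvable

/-!
With four pairs and at least five further points, only one of the two central involutions is a perfect element.
-/

set_option autoImplicit false
set_option linter.unusedSectionVars false

namespace CfsgAltCentInv

open Equiv Subgroup
open scoped commutatorElement

variable {E : Type*} [Group E] [Finite E] {n k : ℕ} {π : E →* Perm (Fin n)} {z t : E}

theorem perm_four_derived : derivedSeries (Perm (Fin 4)) 3 = ⊥ := by
  have h1 : derivedSeries (Perm (Fin 4)) 1 ≤ alternatingGroup (Fin 4) := by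
    rw [derivedSeries_one]
    exact Abelianization.commutator_subset_ker (Perm.sign)
  have key : ∀ a b : Perm (Fin 4), Perm.sign a = 1 → Perm.sign b = 1 →
      (a * b * a⁻¹ * b⁻¹) * (a * b * a⁻¹ * b⁻¹) = 1 ∧ Perm.sign (a * b * a⁻¹ * b⁻¹) = 1 := by decide +kernel
  have key2 : ∀ e f : Perm (Fin 4), e * e = 1 → Perm.sign e = 1 → f * f = 1 → Perm.sign f = 1 →
      e * f * e⁻¹ * f⁻¹ = 1 ∧ (e * f) * (e * f) = 1 := by decide +kernel
  let V : Subgroup (Perm (Fin 4)) :=
    { carrier := {e | e * e = 1 ∧ Perm.sign e = 1}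
      one_mem' := ⟨mul_one 1, map_one _⟩
      mul_mem' := fun {a b} ha hb => ⟨(key2 a b ha.1 ha.2 hb.1 hb.2).2, by rw [map_mul, ha.2, hb.2, one_mul]⟩
      inv_mem' := fun {a} ha => by rw [inv_eq_of_mul_eq_one_right ha.1]; exact ha }
  have h2 : derivedSeries (Perm (Fin 4)) 2 ≤ V := by
    rw [derivedSeries_succ, Subgroup.commutator_le]
    intro a ha b hb
    exact key a b (Perm.mem_alternatingGroup.mp (h1 ha)) (Perm.mem_alternatingGroup.mp (h1 hb))
  rw [derivedSeries_succ, eq_bot_iff, Subgroup.commutator_le]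
  intro a ha b hb
  exact (key2 a b (h2 ha).1 (h2 ha).2 (h2 hb).1 (h2 hb).2).1

/-- The non-central involution is outside the derived series. -/
theorem Cov.t_not_derived (h : Cov π z) (P : Pairs (π t) 4) :
    (⟨t, Subgroup.mem_centralizer_singleton_iff.mpr rfl⟩ : centralizer ({t} : Set E)) ∉
      derivedSeries (centralizer ({t} : Set E)) 4 := by
  classical
  intro hmem
  set f := P.ind.comp (toCent π t)
  have hker : derivedSeries (centralizer ({t} : Set E)) 3 ≤ f.ker := fun x hx => by
    rw [MonoidHom.mem_ker, ← Subgroup.mem_bot, ← perm_four_derived]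
    exact map_derivedSeries_le_derivedSeries f 3 ⟨x, hx, rfl⟩
  have hval : ∀ x ∈ f.ker, ∀ p b, π (x : E) (P.e (p, b)) = P.e (p, b) ∨ π (x : E) (P.e (p, b)) = P.e (p, !b) := by
    intro x hx p b
    obtain ⟨c, hc⟩ := P.ind_spec (toCent π t x) p b
    rw [show P.ind (toCent π t x) = 1 from hx] at hc
    by_cases hcb : c = b
    · exact Or.inl (hc.trans (by rw [hcb]; rfl))
    · exact Or.inr (hc.trans (by rw [show c = !b by cases b <;> cases c <;> simp at hcb ⊢]; rfl))
  have hcomm : ∀ x ∈ f.ker, ∀ y ∈ f.ker, ∀ p b, π ((x * y * x⁻¹ * y⁻¹ : centralizer ({t} : Set E)) : E) (P.e (p, b)) =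
      P.e (p, b) := by
    intro x hx y hy p b
    have hxy : ∀ p b, π (x : E) (π (y : E) (P.e (p, b))) = π (y : E) (π (x : E) (P.e (p, b))) := by
      intro p b
      have hcx := fun w => Perm.congr_fun (cent_comm (toCent π t x)).eq w
      have hcy := fun w => Perm.congr_fun (cent_comm (toCent π t y)).eq w
      rcases hval x hx p b with e1 | e1 <;> rcases hval y hy p b with e2 | e2
      · rw [e2, e1, e2]
      · have := hcx (P.e (p, b))
        simp only [Perm.mul_apply, P.flip] at this
        rw [e2, e1, e2]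
        show π (x : E) _ = _
        rw [show π (x : E) (P.e (p, !b)) = (toCent π t x : Perm (Fin n)) (P.e (p, !b)) from rfl, this,
          show (toCent π t x : Perm (Fin n)) (P.e (p, b)) = π (x : E) (P.e (p, b)) from rfl, e1, P.flip]
      · have := hcy (P.e (p, b))
        simp only [Perm.mul_apply, P.flip] at this
        rw [e2, e1]
        rw [show π (y : E) (P.e (p, !b)) = (toCent π t y : Perm (Fin n)) (P.e (p, !b)) from rfl, this,
          show (toCent π t y : Perm (Fin n)) (P.e (p, b)) = π (y : E) (P.e (p, b)) from rfl, e2, P.flip]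
      · rw [e2, e1]
        rcases hval x hx p (!b) with a | a
        · exact absurd (e1.trans a.symm) ((π (x : E)).injective.ne (by simp))
        rcases hval y hy p (!b) with a' | a'
        · exact absurd (e2.trans a'.symm) ((π (y : E)).injective.ne (by simp))
        rw [a, a']
    have hw : ∀ p b, π (x : E) ((π (y : E)) ((π (x : E))⁻¹ ((π (y : E))⁻¹ (P.e (p, b))))) = P.e (p, b) := by
      intro p b
      obtain ⟨q, c, hq⟩ : ∃ q c, (π (x : E))⁻¹ ((π (y : E))⁻¹ (P.e (p, b))) = P.e (q, c) := by
        refine P.rest _ ?_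
        intro hfix
        have h1 := Perm.congr_fun (cent_comm (toCent π t (y * x))).eq ((π (x : E))⁻¹ ((π (y : E))⁻¹ (P.e (p, b))))
        simp only [Perm.mul_apply] at h1
        rw [hfix] at h1
        simp only [show ((toCent π t (y * x)) : Perm (Fin n)) = π (y : E) * π (x : E) from map_mul π _ _,
          Perm.mul_apply, Perm.coe_inv, Equiv.apply_symm_apply] at h1
        exact P.moves p b h1.symm
      rw [hq, hxy q c, ← hq]
      simp [Perm.coe_inv]
    simpa [map_mul, map_inv, Perm.mul_apply] using hw p b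
  have hle : derivedSeries (centralizer ({t} : Set E)) 4 ≤
      { carrier := {x : centralizer ({t} : Set E) | ∀ p b, π (x : E) (P.e (p, b)) = P.e (p, b)}
        one_mem' := fun p b => by simp
        mul_mem' := fun {a c} ha hc p b => by rw [Subgroup.coe_mul, map_mul, Perm.mul_apply, hc, ha]
        inv_mem' := fun {a} ha p b => by
          rw [Subgroup.coe_inv, map_inv, Perm.inv_eq_iff_eq, ha] } := by
    rw [derivedSeries_succ, Subgroup.commutator_le]
    intro x hx y hy
    exact hcomm x (hker hx) y (hker hy)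
  exact P.moves 0 false (hle hmem 0 false)

/-- With four pairs and five further points the central involution is in all derived subgroups. -/
theorem Cov.z_derived (h : Cov π z) (P : Pairs (π t) 4) (hn : 13 ≤ n) (hz : z ∈ centralizer ({t} : Set E)) (m : ℕ) :
    (⟨z, hz⟩ : centralizer ({t} : Set E)) ∈ derivedSeries (centralizer ({t} : Set E)) m := by
  classical
  let F := {w : Fin n // π t w = w}
  have hF : 5 ≤ Fintype.card F := by
    have hsupp : (π t).support ⊆ Finset.univ.map P.e := fun w hw => by
      obtain ⟨p, b, rfl⟩ := P.rest w (Perm.mem_support.mp hw)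
      simp
    have h1 := Finset.card_le_card hsupp
    have h2 : Fintype.card F + (π t).support.card = n := by
      rw [Fintype.card_subtype, Perm.support, Finset.card_filter_add_card_filter_not, Finset.card_univ, Fintype.card_fin]
    simp at h1
    omega
  let o := Perm.ofSubtype (p := fun w => π t w = w)
  let K : Subgroup (centralizer ({t} : Set E)) :=
    { carrier := {x | ∀ w, π t w ≠ w → π (x : E) w = w}
      one_mem' := fun w _ => by simp
      mul_mem' := fun {a c} ha hc w hw => by rw [Subgroup.coe_mul, map_mul, Perm.mul_apply, hc w hw, ha w hw]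
      inv_mem' := fun {a} ha w hw => by rw [Subgroup.coe_inv, map_inv, Perm.inv_eq_iff_eq, ha w hw] }
  have ho : ∀ (r : Perm F) w, π t w ≠ w → o r w = w := fun r w hw => Perm.ofSubtype_apply_of_not_mem r hw
  have hlift : ∀ r : Perm F, Perm.sign r = 1 → ∃ x ∈ K, π (x : E) = o r := by
    intro r hr
    obtain ⟨g, hg⟩ := h.cover.onto (o r) (by rw [Perm.sign_ofSubtype, hr])
    have hc : Commute t g := h.cover.commute_disjoint t (o r) (by rw [Perm.sign_ofSubtype, hr]) (fun w hw => by
      by_contra hne
      exact hw (ho r w hne)) g hg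
    exact ⟨⟨g, Subgroup.mem_centralizer_singleton_iff.mpr hc.eq.symm⟩, fun w hw => by
      show π g w = w
      rw [hg, ho r w hw], hg⟩
  -- the central involution is a commutator
  obtain ⟨u⟩ : Nonempty (Fin 5 ↪ F) := Function.Embedding.nonempty_of_card_le (by rw [Fintype.card_fin]; exact hF)
  have hz1 : (⟨z, hz⟩ : centralizer ({t} : Set E)) ∈ ⁅K, K⁆ := by
    have hnd : ∀ a b c d : Fin 5, [a, b, c, d].Nodup → [(u a : Fin n), u b, u c, u d].Nodup := fun a b c d hh => by
      have := hh.map (f := fun i => (u i : Fin n)) fun i j e => u.injective (Subtype.ext e)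
      simpa using this
    have hs : ∀ a b c d : Fin 5, [a, b, c, d].Nodup → ∀ w, π t w ≠ w →
        dbl (u a : Fin n) (u b) (u c) (u d) w = w := fun a b c d _ w hw => by
      have : ∀ i, w ≠ u i := fun i e => hw (e ▸ (u i).2)
      rw [dbl, Perm.mul_apply, swap_apply_of_ne_of_ne (this c) (this d), swap_apply_of_ne_of_ne (this a) (this b)]
    have hin : ∀ a b c d : Fin 5, [a, b, c, d].Nodup → ∀ A : E, π A = dbl (u a : Fin n) (u b) (u c) (u d) →
        ∃ x ∈ K, (x : E) = A := by
      intro a b c d hh A hA
      have hc : Commute t A := h.cover.commute_disjoint t _ (sign_dbl (hnd a b c d hh)) (fun w hw => by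
        by_contra hne
        exact hw (hs a b c d hh w hne)) A hA
      exact ⟨⟨A, Subgroup.mem_centralizer_singleton_iff.mpr hc.eq.symm⟩, fun w hw => by
        show π A w = w
        rw [hA, hs a b c d hh w hw], rfl⟩
    obtain ⟨A, hA⟩ := h.cover.onto _ (sign_dbl (hnd 0 1 2 3 (by decide)))
    obtain ⟨B, hB⟩ := h.cover.onto _ (sign_dbl (hnd 0 2 1 3 (by decide)))
    obtain ⟨a, haK, ha⟩ := hin 0 1 2 3 (by decide) A hA
    obtain ⟨b, hbK, hb⟩ := hin 0 2 1 3 (by decide) B hB
    have hprod : dbl (u 0 : Fin n) (u 1) (u 2) (u 3) * dbl (u 0 : Fin n) (u 2) (u 1) (u 3) =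
        dbl (u 0 : Fin n) (u 3) (u 1) (u 2) := by
      have := hnd 0 1 2 3 (by decide)
      simp at this
      ext w
      simp only [dbl, Perm.mul_apply]
      by_cases w1 : w = (u 0 : Fin n)
      · subst w1; simp [swap_apply_of_ne_of_ne, this, Ne.symm]
      by_cases w2 : w = (u 1 : Fin n)
      · subst w2; simp [swap_apply_of_ne_of_ne, this, Ne.symm]
      by_cases w3 : w = (u 2 : Fin n)
      · subst w3; simp [swap_apply_of_ne_of_ne, this, Ne.symm]
      by_cases w4 : w = (u 3 : Fin n)
      · subst w4; simp [swap_apply_of_ne_of_ne, this, Ne.symm]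
      simp [swap_apply_of_ne_of_ne, w1, w2, w3, w4]
    have := h.anti (hnd 0 1 2 3 (by decide)) (hnd 0 2 1 3 (by decide)) hA hB (hnd 0 3 1 2 (by decide)) hprod
    have e : ⁅a, b⁆ = (⟨z, hz⟩ : centralizer ({t} : Set E)) := Subtype.ext (by
      rw [commutatorElement_def]
      show (a : E) * b * (a : E)⁻¹ * (b : E)⁻¹ = z
      rw [ha, hb, this, h.z_cen, mul_inv_cancel_right])
    rw [← e]
    exact Subgroup.commutator_mem_commutator haK hbK
  have hperf : K ≤ ⁅K, K⁆ := by
    let L : Subgroup (alternatingGroup F) :=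
      { carrier := {r | ∃ x ∈ ⁅K, K⁆, π (x : E) = o r}
        one_mem' := ⟨1, one_mem _, by simp⟩
        mul_mem' := by
          rintro a b ⟨x, hx, ex⟩ ⟨y, hy, ey⟩
          exact ⟨x * y, mul_mem hx hy, by rw [Subgroup.coe_mul, map_mul, ex, ey, Subgroup.coe_mul, map_mul]⟩
        inv_mem' := by
          rintro a ⟨x, hx, ex⟩
          exact ⟨x⁻¹, inv_mem hx, by rw [Subgroup.coe_inv, map_inv, ex, Subgroup.coe_inv, map_inv]⟩ }
    have hL : L = ⊤ := by
      refine top_le_iff.mp ?_
      rw [← commutator_alternatingGroup_eq_top (α := F) (by rw [Nat.card_eq_fintype_card]; exact hF),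
        _root_.commutator_def, Subgroup.commutator_le]
      intro a _ b _
      obtain ⟨x, hx, ex⟩ := hlift a (Perm.mem_alternatingGroup.mp a.2)
      obtain ⟨y, hy, ey⟩ := hlift b (Perm.mem_alternatingGroup.mp b.2)
      refine ⟨⁅x, y⁆, Subgroup.commutator_mem_commutator hx hy, ?_⟩
      simp [commutatorElement_def, map_mul, map_inv, ex, ey]
    intro x hx
    have hd : ∀ w, π (x : E) w ≠ w → π t w = w := fun w hw => by
      by_contra hne
      exact hw (hx w hne)
    have hinv : ∀ w, π t (π (x : E) w) = π (x : E) w ↔ π t w = w := fun w => by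
      by_cases hz : π (x : E) w = w
      · rw [hz]
      · exact iff_of_true (hd _ fun e => hz ((π (x : E)).injective e)) (hd w hz)
    have hfr : o ((π (x : E)).subtypePerm hinv) = π (x : E) := Perm.ofSubtype_subtypePerm hinv hd
    obtain ⟨y, hy, ey⟩ : (⟨(π (x : E)).subtypePerm hinv, Perm.mem_alternatingGroup.mpr (by
      rw [Perm.sign_subtypePerm _ hinv hd, h.cover.even])⟩ : alternatingGroup F) ∈ L := hL ▸ Subgroup.mem_top _
    rcases h.eq_or (x := (x : E)) (y := (y : E)) (by rw [ey]; exact hfr.symm) with e | e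
    · rw [show x = y from Subtype.ext e]; exact hy
    · rw [show x = y * ⟨z, hz⟩ from Subtype.ext e]; exact mul_mem hy hz1
  have hall : ∀ m, K ≤ derivedSeries (centralizer ({t} : Set E)) m := fun m => by
    induction m with
    | zero => exact le_top
    | succ m ih => rw [derivedSeries_succ]; exact hperf.trans (Subgroup.commutator_mono ih ih)
  exact hall m (fun w _ => by show π z w = w; rw [h.pi_z]; rfl)

end CfsgAltCentInv
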