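import Cfsg.Agent.Lib.AltCentInv.Swap
import Cfsg.Agent.Lib.AltCentInv.Small.Main
import Cfsg.Agent.Lib.ZStar.Main

/-!
An involution of a finite simple group with centraliser the double cover of the alternating group of degree `n`:
then `n` is 8 or 11.
-/

set_option autoImplicit false
set_option linter.style.haveILetI false

namespace CfsgAltCentInv

open Equiv Subgroup
open Cfsg

variable {G : Type*} [Group G] [Finite G] {z : G} {n : ℕ} {π : centralizer ({z} : Set G) →* Perm (Fin n)}
  {zC : centralizer ({z} : Set G)}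

theorem exists_fused [IsSimpleGroup G] (hz : orderOf z = 2) (h : Cov π zC) :
    ∃ g : G, g * z * g⁻¹ ∈ centralizer ({z} : Set G) ∧ g * z * g⁻¹ ≠ z := by
  by_contra! hno
  have hiso : IsIsolated z := fun g hg => hno g (Subgroup.mem_centralizer_singleton_iff.mpr hg.eq.symm)
  have hO : pPrimeCore 2 G = ⊥ := by
    rcases IsSimpleGroup.eq_bot_or_eq_top_of_normal (pPrimeCore 2 G) inferInstance with e | e
    · exact e
    · exfalso
      refine CfsgLib.not_dvd_card_pPrimeCore (G := G) Nat.prime_two ?_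
      have hd := Subgroup.orderOf_dvd_natCard (pPrimeCore 2 G) (x := z) (by rw [e]; exact Subgroup.mem_top z)
      rwa [hz] at hd
  have hcom : ∀ g : G, z * g = g * z := fun g => by
    have := CfsgLib.ZStar.commutator_mem hz hiso g
    rw [hO, Subgroup.mem_bot, mul_inv_eq_one, mul_inv_eq_iff_eq_mul] at this
    exact this
  have hzc : z ∈ center G := Subgroup.mem_center_iff.mpr fun g => (hcom g).symm
  have hz1 : z ≠ 1 := fun e => by rw [e, orderOf_one] at hz; omega
  have htop : center G = ⊤ := by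
    rcases IsSimpleGroup.eq_bot_or_eq_top_of_normal (center G) inferInstance with e | e
    · exact absurd (Subgroup.mem_bot.mp (e ▸ hzc)) hz1
    · exact e
  have hab : ∀ x y : centralizer ({z} : Set G), x * y = y * x := fun x y =>
    Subtype.ext (Subgroup.mem_center_iff.mp (htop ▸ Subgroup.mem_top (y : G)) (x : G))
  have hbot : commutator (centralizer ({z} : Set G)) = ⊥ := by
    rw [_root_.commutator_def, Subgroup.commutator_eq_bot_iff_le_centralizer]
    exact fun x _ y _ => hab y x
  have hperf := h.cover.perfect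
  rw [hbot] at hperf
  exact h.ne (Subgroup.mem_bot.mp (hperf.symm ▸ Subgroup.mem_top zC))

theorem degree [IsSimpleGroup G] (hn : 5 ≤ n) (hz : orderOf z = 2)
    (hcov : Cfsg.IsNonsplitDoubleCover (centralizer ({z} : Set G)) (alternatingGroup (Fin n))) :
    n = 8 ∨ n = 11 := by
  classical
  obtain ⟨π, zC, h, hker⟩ := exists_cov hn hcov
  have hzC : (zC : G) = z := by
    have hm : (⟨z, Subgroup.mem_centralizer_singleton_iff.mpr rfl⟩ : centralizer ({z} : Set G)) ∈ center _ :=
      Subgroup.mem_center_iff.mpr fun x => Subtype.ext (Subgroup.mem_centralizer_singleton_iff.mp x.2)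
    rw [← hker, MonoidHom.mem_ker, h.ker] at hm
    rcases hm with e | e
    · have hz1 : z = 1 := congrArg Subtype.val e
      rw [hz1, orderOf_one] at hz
      omega
    · exact (congrArg Subtype.val e).symm
  obtain ⟨g, hg, hne⟩ := exists_fused hz h
  have hzz : z * z = 1 := by rw [← pow_two, ← hz, pow_orderOf_eq_one]
  have hz1 : z ≠ 1 := fun e => by rw [e, orderOf_one] at hz; omega
  set t : centralizer ({z} : Set G) := ⟨g * z * g⁻¹, hg⟩ with ht
  have ht2 : t * t = 1 := Subtype.ext (by
    show g * z * g⁻¹ * (g * z * g⁻¹) = 1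
    rw [show g * z * g⁻¹ * (g * z * g⁻¹) = g * (z * z) * g⁻¹ by group, hzz, mul_one, mul_inv_cancel])
  have hpi : ∀ x : centralizer ({z} : Set G), (x : G) ≠ 1 → (x : G) ≠ z → π x ≠ 1 := fun x h1 h2 e => by
    rcases (h.ker x).mp e with e' | e'
    exacts [h1 (congrArg Subtype.val e'), h2 ((congrArg Subtype.val e').trans hzC)]
  have ht1 : π t ≠ 1 := hpi t (fun e => hz1 (conj_eq_one_iff.mp e)) hne
  rcases (by omega : n ≤ 7 ∨ (9 ≤ n ∧ n ≤ 10) ∨ 12 ≤ n ∨ n = 8 ∨ n = 11) with h7 | h910 | h12 | h8
  · exfalso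
    have hd := h.four_dvd t (by rw [← map_mul, ht2, map_one]) ht2
    have hpos : 0 < (π t).support.card :=
      Finset.card_pos.mpr (Finset.nonempty_iff_ne_empty.mpr fun e => ht1 (Perm.support_eq_empty_iff.mp e))
    have := (Finset.card_le_univ (π t).support).trans (Fintype.card_fin n).le
    omega
  · exact (small_false hzC h h910.1 h910.2 ⟨g, hg, hne⟩).elim
  · exfalso
    have hgt : g * z * g⁻¹ * z = z * (g * z * g⁻¹) := Subgroup.mem_centralizer_singleton_iff.mp hg
    have hsm : g⁻¹ * z * g ∈ centralizer ({z} : Set G) := by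
      rw [Subgroup.mem_centralizer_singleton_iff]
      calc g⁻¹ * z * g * z = g⁻¹ * (z * (g * z * g⁻¹)) * g := by group
        _ = g⁻¹ * (g * z * g⁻¹ * z) * g := by rw [hgt]
        _ = z * (g⁻¹ * z * g) := by group
    set s : centralizer ({z} : Set G) := ⟨g⁻¹ * z * g, hsm⟩ with hs
    have hs2 : s * s = 1 := Subtype.ext (by
      show g⁻¹ * z * g * (g⁻¹ * z * g) = 1
      rw [show g⁻¹ * z * g * (g⁻¹ * z * g) = g⁻¹ * (z * z) * g by group, hzz, mul_one, inv_mul_cancel])
    have hs1 : π s ≠ 1 := hpi s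
      (fun e => hz1 (by
        calc z = g * (g⁻¹ * z * g) * g⁻¹ := by group
          _ = 1 := by rw [show g⁻¹ * z * g = 1 from e, mul_one, mul_inv_cancel]))
      (fun e => hne (by
        calc g * z * g⁻¹ = g * (g⁻¹ * z * g) * g⁻¹ := by rw [show g⁻¹ * z * g = z from e]
          _ = z := by group))
    have hcs : zC ∈ centralizer ({s} : Set (centralizer ({z} : Set G))) :=
      Subgroup.mem_centralizer_singleton_iff.mpr (h.z_cen s).symm
    have hct : zC ∈ centralizer ({t} : Set (centralizer ({z} : Set G))) :=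
      Subgroup.mem_centralizer_singleton_iff.mpr (h.z_cen t).symm
    have key : ∀ x : G, x * z = z * x → x * (g⁻¹ * z * g) = g⁻¹ * z * g * x →
        g * x * g⁻¹ * z = z * (g * x * g⁻¹) ∧ g * x * g⁻¹ * (g * z * g⁻¹) = g * z * g⁻¹ * (g * x * g⁻¹) := by
      intro x h1 h2
      constructor
      · calc g * x * g⁻¹ * z = g * (x * (g⁻¹ * z * g)) * g⁻¹ := by group
          _ = z * (g * x * g⁻¹) := by rw [h2]; group
      · calc g * x * g⁻¹ * (g * z * g⁻¹) = g * (x * z) * g⁻¹ := by group
          _ = g * z * g⁻¹ * (g * x * g⁻¹) := by rw [h1]; group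
    have keyi : ∀ y : G, y * z = z * y → y * (g * z * g⁻¹) = g * z * g⁻¹ * y →
        g⁻¹ * y * g * z = z * (g⁻¹ * y * g) ∧ g⁻¹ * y * g * (g⁻¹ * z * g) = g⁻¹ * z * g * (g⁻¹ * y * g) := by
      intro y h1 h2
      constructor
      · calc g⁻¹ * y * g * z = g⁻¹ * (y * (g * z * g⁻¹)) * g := by group
          _ = z * (g⁻¹ * y * g) := by rw [h2]; group
      · calc g⁻¹ * y * g * (g⁻¹ * z * g) = g⁻¹ * (y * z) * g := by group
          _ = g⁻¹ * z * g * (g⁻¹ * y * g) := by rw [h1]; group
    have memC : ∀ {u : centralizer ({z} : Set G)} (x : centralizer ({u} : Set (centralizer ({z} : Set G)))),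
        ((x : centralizer ({z} : Set G)) : G) * z = z * ((x : centralizer ({z} : Set G)) : G) ∧
        ((x : centralizer ({z} : Set G)) : G) * (u : G) = (u : G) * ((x : centralizer ({z} : Set G)) : G) :=
      fun x => ⟨Subgroup.mem_centralizer_singleton_iff.mp x.1.2,
        congrArg Subtype.val (Subgroup.mem_centralizer_singleton_iff.mp x.2)⟩
    let f : centralizer ({s} : Set (centralizer ({z} : Set G))) ≃* centralizer ({t} : Set (centralizer ({z} : Set G))) :=
      { toFun := fun x => ⟨⟨g * x.1.1 * g⁻¹, Subgroup.mem_centralizer_singleton_iff.mpr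
            (key _ (memC x).1 (memC x).2).1⟩,
          Subgroup.mem_centralizer_singleton_iff.mpr (Subtype.ext (key _ (memC x).1 (memC x).2).2)⟩
        invFun := fun y => ⟨⟨g⁻¹ * y.1.1 * g, Subgroup.mem_centralizer_singleton_iff.mpr
            (keyi _ (memC y).1 (memC y).2).1⟩,
          Subgroup.mem_centralizer_singleton_iff.mpr (Subtype.ext (keyi _ (memC y).1 (memC y).2).2)⟩
        left_inv := fun x => Subtype.ext (Subtype.ext (by simp [mul_assoc]))
        right_inv := fun y => Subtype.ext (Subtype.ext (by simp [mul_assoc]))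
        map_mul' := fun x y => Subtype.ext (Subtype.ext (by simp [mul_assoc])) }
    refine h.no_swap h12 ht2 ht1 hs2 hs1 hcs hct f (Subtype.ext ?_) (Subtype.ext ?_)
    · show g * (zC : G) * g⁻¹ = g * z * g⁻¹
      rw [hzC]
    · show g * (g⁻¹ * z * g) * g⁻¹ = (zC : G)
      rw [hzC]
      group
  · exact h8

end CfsgAltCentInv
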