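import Cfsg.Agent.Lib.AltCentInv.Shape
import Mathlib.GroupTheory.Perm.Centralizer

/-!
Classes of square roots of the two central involutions in the centraliser of a pair.
-/

set_option autoImplicit false
set_option linter.unusedSectionVars false

namespace CfsgAltCentInv

open Equiv Subgroup
open CfsgAltCover.Anti (conj_pair)
open scoped Nat

variable {E : Type*} [Group E] [Finite E] {n k : ℕ} {π : E →* Perm (Fin n)} {z t : E}

/-- The class of an element. -/
def cls {Γ : Type*} [Group Γ] (x : Γ) : Set Γ := {y | ∃ g, g * x * g⁻¹ = y}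

theorem cls_map {Γ Δ : Type*} [Group Γ] [Group Δ] (f : Γ ≃* Δ) (x : Γ) : (cls (f x)) = f '' cls x := by
  ext y
  constructor
  · rintro ⟨g, rfl⟩
    exact ⟨f.symm g * x * (f.symm g)⁻¹, ⟨_, rfl⟩, by simp⟩
  · rintro ⟨-, ⟨g, rfl⟩, rfl⟩
    exact ⟨f g, by simp⟩

theorem cls_ncard {Γ Δ : Type*} [Group Γ] [Group Δ] (f : Γ ≃* Δ) (x : Γ) :
    (cls (f x)).ncard = (cls x).ncard := by
  rw [cls_map, Set.ncard_image_of_injective _ f.injective]

/-- A set of lifts has at most twice the size of its image. -/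
theorem Cov.ncard_le (h : Cov π z) {Γ : Type*} [Finite Γ] {f : Γ → E} (hf : Function.Injective f) (S : Set Γ)
    (I : Set (Perm (Fin n))) (hI : ∀ y ∈ S, π (f y) ∈ I) : S.ncard ≤ 2 * I.ncard := by
  classical
  let J : Set (Perm (Fin n) × Bool) := I ×ˢ Set.univ
  let L : Perm (Fin n) → E := fun σ => if hσ : ∃ g, π g = σ then hσ.choose else 1
  have hJ : J.ncard = 2 * I.ncard := by
    rw [Set.ncard_prod, Set.ncard_univ, Nat.card_eq_fintype_card, Fintype.card_bool, mul_comm]
  rw [← hJ]
  refine Set.ncard_le_ncard_of_injOn (fun y => (π (f y), decide (f y = L (π (f y))))) (fun y hy => ⟨hI y hy, trivial⟩)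
    (fun a _ b _ hab => ?_) (Set.toFinite _)
  simp only [Prod.mk.injEq, decide_eq_decide] at hab
  obtain ⟨e1, e2⟩ := hab
  have hL : π (L (π (f a))) = π (f a) := by
    simp only [L, dif_pos (show ∃ g, π g = π (f a) from ⟨_, rfl⟩)]
    exact (show ∃ g, π g = π (f a) from ⟨_, rfl⟩).choose_spec
  rw [← e1] at e2
  refine hf ?_
  rcases h.eq_or hL.symm with ha | ha
  · rw [ha, e2.mp ha]
  · rcases h.eq_or (e1.symm.trans hL.symm) with hb | hb
    · exact absurd (e2.mpr hb) fun he => h.mul_z_ne (L (π (f a))) (ha.symm.trans he)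
    · rw [ha, hb]

theorem nodup_pairs (P : Pairs (π t) k) {p q : Fin k} (hpq : p ≠ q) :
    [P.e (p, false), P.e (p, true), P.e (q, false), P.e (q, true)].Nodup := by
  simp [hpq]

/-- The central involution of the double cover has a root with a small class. -/
theorem Cov.z_root (h : Cov π z) (P : Pairs (π t) k) (hk : 2 ≤ k) :
    ∃ x : centralizer ({t} : Set E), (x : E) * x = z ∧ (cls x).ncard ≤ k * (k - 1) := by
  classical
  set p0 : Fin k := ⟨0, by omega⟩
  set q0 : Fin k := ⟨1, by omega⟩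
  have hne : p0 ≠ q0 := by simp [p0, q0]
  obtain ⟨Q, hQ⟩ := h.cover.onto (P.sw p0 * P.sw q0) (sign_dbl (nodup_pairs P hne))
  have hsq : Q * Q = z := h.dbl_sq (nodup_pairs P hne) hQ
  refine ⟨⟨Q, Subgroup.mem_centralizer_singleton_iff.mpr (h.two_pairs P hne hQ).eq⟩, hsq, ?_⟩
  let F : Finset (Fin k × Fin k) := Finset.univ.filter fun x => x.1 < x.2
  have hF : 2 * F.card = k * (k - 1) := by
    let F' : Finset (Fin k × Fin k) := Finset.univ.filter fun x => x.2 < x.1
    have hFF : F'.card = F.card := Finset.card_bij (fun x _ => x.swap) (fun x hx => by simpa [F, F'] using hx)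
      (fun a _ b _ e => Prod.swap_injective e) (fun x hx => ⟨x.swap, by simpa [F, F'] using hx, x.swap_swap⟩)
    have hU : F ∪ F' = (Finset.univ : Finset (Fin k)).offDiag := by
      ext x
      simp only [F, F', Finset.mem_union, Finset.mem_filter, Finset.mem_univ, true_and, Finset.mem_offDiag]
      exact ⟨fun h => h.elim ne_of_lt ne_of_gt, lt_or_gt_of_ne⟩
    have hd : Disjoint F F' := by
      rw [Finset.disjoint_left]
      intro x h1 h2
      simp [F, F'] at h1 h2
      exact lt_asymm h1 h2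
    have := congrArg Finset.card hU
    rw [Finset.card_union_of_disjoint hd, hFF, Finset.offDiag_card, Finset.card_univ, Fintype.card_fin] at this
    rw [Nat.mul_sub, mul_one]
    omega
  let I : Set (Perm (Fin n)) := ↑(F.image fun x => P.sw x.1 * P.sw x.2)
  refine (h.ncard_le Subtype.val_injective _ I ?_).trans ?_
  · rintro _ ⟨g, rfl⟩
    set σ := toCent π t g
    obtain ⟨c, hc⟩ := P.ind_spec σ p0 false
    obtain ⟨d, hd⟩ := P.ind_spec σ q0 false
    have hflip : ∀ (p : Fin k) b q c', (σ : Perm (Fin n)) (P.e (p, b)) = P.e (q, c') →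
        (σ : Perm (Fin n)) (P.e (p, !b)) = P.e (q, !c') := fun p b q c' e => by
      have := Perm.congr_fun (cent_comm σ).eq (P.e (p, b))
      rw [Perm.mul_apply, Perm.mul_apply, P.flip, e, P.flip] at this
      exact this
    have hne' : P.ind σ p0 ≠ P.ind σ q0 := fun e => hne ((P.ind σ).injective e)
    have him : π ((g * ⟨Q, Subgroup.mem_centralizer_singleton_iff.mpr (h.two_pairs P hne hQ).eq⟩ * g⁻¹ :
        centralizer ({t} : Set E)) : E) = P.sw (P.ind σ p0) * P.sw (P.ind σ q0) := by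
      show π ((g : E) * Q * (g : E)⁻¹) = _
      rw [map_mul, map_mul, map_inv, hQ]
      show (σ : Perm (Fin n)) * _ * (σ : Perm (Fin n))⁻¹ = _
      rw [Pairs.sw, Pairs.sw, conj_pair, hc, hd, show (true : Bool) = !false from rfl, hflip _ _ _ _ hc, hflip _ _ _ _ hd]
      cases c <;> cases d <;> simp [Pairs.sw, swap_comm]
    rw [him]
    simp only [I, Finset.coe_image, Set.mem_image, Finset.mem_coe, F, Finset.mem_filter, Finset.mem_univ, true_and]
    rcases lt_or_gt_of_ne hne' with hlt | hlt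
    · exact ⟨(_, _), hlt, rfl⟩
    · refine ⟨(P.ind σ q0, P.ind σ p0), hlt, ?_⟩
      refine (Perm.Disjoint.commute ?_).eq
      intro w
      simp only [Pairs.sw]
      by_cases hw : w = P.e (P.ind σ q0, false) ∨ w = P.e (P.ind σ q0, true)
      · refine Or.inr (swap_apply_of_ne_of_ne ?_ ?_) <;> rcases hw with rfl | rfl <;> simp [hne', hne'.symm]
      · rw [not_or] at hw
        exact Or.inl (swap_apply_of_ne_of_ne hw.1 hw.2)
  · rw [Set.ncard_coe_finset, ← hF]
    exact Nat.mul_le_mul_left 2 Finset.card_image_le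

/-- What a root of the involution does to the pairs. -/
theorem Cov.root_ind (h : Cov π z) (P : Pairs (π t) k) {y : centralizer ({t} : Set E)} (hy : (y : E) * y = t) :
    let σ := P.ind (toCent π t y); σ * σ = 1 ∧ ∀ p, σ p ≠ p := by
  intro σ
  set s := toCent π t y with hs
  have hsq : ∀ w, (s : Perm (Fin n)) ((s : Perm (Fin n)) w) = π t w := fun w => by
    exact Perm.congr_fun ((map_mul π (y : E) y).symm.trans (congrArg π hy)) w
  have hone : ∀ p, σ (σ p) = p := fun p => by
    obtain ⟨c, hc⟩ := P.ind_spec s p false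
    obtain ⟨d, hd⟩ := P.ind_spec s (σ p) c
    have := hsq (P.e (p, false))
    rw [hc, hd, P.flip] at this
    exact congrArg Prod.fst (P.e.injective this)
  refine ⟨Equiv.ext hone, fun p hp => ?_⟩
  obtain ⟨c, hc⟩ := P.ind_spec s p false
  obtain ⟨d, hd⟩ := P.ind_spec s p true
  rw [show P.ind s p = p from hp] at hc hd
  have h1 := hsq (P.e (p, false))
  rw [hc, P.flip] at h1
  cases c
  · rw [hc] at h1; simpa using congrArg Prod.snd (P.e.injective h1)
  · have h2 := (s : Perm (Fin n)).injective.ne (a₁ := P.e (p, false)) (a₂ := P.e (p, true)) (by simp)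
    rw [hd] at h1
    rw [hc, hd, h1] at h2
    exact h2 rfl

theorem cycleType_fpf {α : Type*} [Fintype α] [DecidableEq α] {σ : Perm α} (h2 : σ * σ = 1) (hf : ∀ p, σ p ≠ p) :
    ∃ m, Fintype.card α = 2 * m ∧ σ.cycleType = Multiset.replicate m 2 := by
  have hsupp : σ.support = Finset.univ := Finset.eq_univ_of_forall fun p => Perm.mem_support.mpr (hf p)
  have hall : ∀ c ∈ σ.cycleType, c = 2 := fun c hc => by
    have h1 := (Perm.dvd_of_mem_cycleType hc).trans (orderOf_dvd_of_pow_eq_one (by rw [sq, h2]))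
    have := Perm.two_le_of_mem_cycleType hc
    rcases (Nat.dvd_prime Nat.prime_two).mp h1 with e | e <;> omega
  have hrep := Multiset.eq_replicate_card.mpr hall
  have hsum := Perm.sum_cycleType σ
  rw [hrep, Multiset.sum_replicate, smul_eq_mul, hsupp, Finset.card_univ] at hsum
  exact ⟨_, by omega, hrep⟩

theorem fpf_count {m : ℕ} (hm : 4 ≤ m) : 2 * m * (2 * m - 1) * (2 ^ m * m !) < (2 * m)! := by
  induction m, hm using Nat.le_induction with
  | base => decide
  | succ m hm ih =>
    rw [show 2 * (m + 1) = 2 * m + 2 by ring, show 2 * m + 2 - 1 = 2 * m + 1 by omega, Nat.factorial_succ,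
      Nat.factorial_succ (2 * m + 1), Nat.factorial_succ (2 * m), pow_succ]
    have h1 : (2 * m + 2) * (2 * m + 1) ≤ (2 * m + 1) * (2 * m * (2 * m - 1)) := by
      obtain ⟨r, rfl⟩ : ∃ r, m = r + 1 := ⟨m - 1, by omega⟩
      rw [show 2 * (r + 1) - 1 = 2 * r + 1 by omega]
      nlinarith [mul_le_mul_of_nonneg_left (show 3 ≤ r by omega) (Nat.zero_le r)]
    calc (2 * m + 2) * (2 * m + 1) * (2 ^ m * 2 * ((m + 1) * m !))
        = (2 * m + 2) * ((2 * m + 2) * (2 * m + 1) * (2 ^ m * m !)) := by ring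
      _ ≤ (2 * m + 2) * ((2 * m + 1) * (2 * m * (2 * m - 1)) * (2 ^ m * m !)) := by gcongr
      _ = (2 * m + 2) * (2 * m + 1) * (2 * m * (2 * m - 1) * (2 ^ m * m !)) := by ring
      _ < (2 * m + 2) * (2 * m + 1) * (2 * m)! := by gcongr
      _ = _ := by ring

/-- The conjugates of the action of a root. -/
theorem Cov.conj_mem (h : Cov π z) (P : Pairs (π t) k) {y : centralizer ({t} : Set E)} (hy : (y : E) * y = t)
    (ρ : Perm (Fin k)) :
    ∃ y' ∈ cls y, P.ind (toCent π t y') = ρ * P.ind (toCent π t y) * ρ⁻¹ := by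
  set σ := P.ind (toCent π t y) with hσ
  obtain ⟨h2, hf⟩ := h.root_ind P hy
  rw [← hσ] at h2 hf
  obtain ⟨ρ', hs, he⟩ : ∃ ρ' : Perm (Fin k), Perm.sign ρ' = 1 ∧ ρ' * σ * ρ'⁻¹ = ρ * σ * ρ⁻¹ := by
    rcases Int.units_eq_one_or (Perm.sign ρ) with e | e
    · exact ⟨ρ, e, rfl⟩
    · by_cases hk : k = 0
      · subst hk; exact ⟨1, map_one _, Equiv.ext fun p => p.elim0⟩
      let p : Fin k := ⟨0, by omega⟩
      refine ⟨ρ * swap p (σ p), by rw [map_mul, e, Perm.sign_swap (hf p).symm]; rfl, ?_⟩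
      have hinv : σ (σ p) = p := by rw [← Perm.mul_apply, h2]; rfl
      have hc : swap p (σ p) * σ * (swap p (σ p))⁻¹ = σ := by
        rw [swap_inv, mul_assoc, Equiv.mul_swap_eq_swap_mul σ, hinv, swap_comm (σ p) p, ← mul_assoc, swap_mul_self,
          one_mul]
      calc _ = ρ * (swap p (σ p) * σ * (swap p (σ p))⁻¹) * ρ⁻¹ := by group
        _ = _ := by rw [hc]
  obtain ⟨g, hg⟩ := h.cover.onto _ (P.sign_blow ρ')
  let g' : centralizer ({t} : Set E) :=
    ⟨g, Subgroup.mem_centralizer_singleton_iff.mpr (h.blow_commute P hs g hg).eq⟩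
  refine ⟨g' * y * g'⁻¹, ⟨g', rfl⟩, ?_⟩
  have hi : P.ind (toCent π t g') = ρ' := by
    conv_rhs => rw [← P.ind_blow ρ']
    exact congrArg P.ind (Subtype.ext hg)
  rw [map_mul, map_mul, map_inv, map_mul, map_mul, map_inv, hi, ← he]

/-- Roots of the non-central involution have large classes. -/
theorem Cov.t_root (h : Cov π z) (P : Pairs (π t) k) (hk : 8 ≤ k) {y : centralizer ({t} : Set E)}
    (hy : (y : E) * y = t) : k * (k - 1) < (cls y).ncard := by
  classical
  set σ := P.ind (toCent π t y) with hσ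
  obtain ⟨h2, hf⟩ := h.root_ind P hy
  rw [← hσ] at h2 hf
  have hle : Nat.card {x : Perm (Fin k) | IsConj σ x} ≤ (cls y).ncard := by
    rw [← Nat.card_coe_set_eq]
    have hex : ∀ x : {x : Perm (Fin k) | IsConj σ x}, ∃ y' : cls y, P.ind (toCent π t y'.1) = x := by
      rintro ⟨x, hx⟩
      obtain ⟨ρ, rfl⟩ := isConj_iff.mp hx
      obtain ⟨y', hy', e⟩ := h.conj_mem P hy ρ
      exact ⟨⟨y', hy'⟩, e⟩
    choose f hfe using hex
    exact Nat.card_le_card_of_injective f fun a b e => Subtype.ext (by rw [← hfe a, ← hfe b, e])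
  obtain ⟨m, hm, hct⟩ := cycleType_fpf h2 hf
  rw [Fintype.card_fin] at hm
  have hmul := Equiv.Perm.card_isConj_mul_eq (g := σ)
  rw [hct, Multiset.sum_replicate, Multiset.prod_replicate, Fintype.card_fin, smul_eq_mul,
    show k - m * 2 = 0 by omega, Nat.factorial_zero, one_mul] at hmul
  rw [Multiset.toFinset_replicate, if_neg (by omega), Finset.prod_singleton, Multiset.count_replicate_self] at hmul
  have hlt := fpf_count (m := m) (by omega)
  rw [← hm, ← hmul] at hlt
  exact lt_of_lt_of_le (Nat.lt_of_mul_lt_mul_right hlt) hle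

end CfsgAltCentInv
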