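import Cfsg.Agent.Lib.AltCentInv.Cover

/-!
The centraliser of a non-central involution of a double cover of an alternating group: the pairs moved by it.
-/

set_option autoImplicit false
set_option linter.unusedSectionVars false

namespace CfsgAltCentInv

open Equiv Subgroup

variable {n : ℕ}

/-- An indexing of the transpositions making up an involution. -/
structure Pairs (τ : Perm (Fin n)) (k : ℕ) where
  e : Fin k × Bool ↪ Fin n
  flip : ∀ p b, τ (e (p, b)) = e (p, !b)
  rest : ∀ w, τ w ≠ w → ∃ p b, w = e (p, b)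

theorem exists_pairs {τ : Perm (Fin n)} (h2 : τ * τ = 1) :
    ∃ k, τ.support.card = 2 * k ∧ Nonempty (Pairs τ k) := by
  classical
  have hinv : ∀ w, τ (τ w) = w := fun w => by rw [← Perm.mul_apply, h2]; rfl
  let R := {w : Fin n // w < τ w}
  obtain ⟨r⟩ : Nonempty (Fin (Fintype.card R) ≃ R) := ⟨(Fintype.equivFin R).symm⟩
  refine ⟨Fintype.card R, ?_, ⟨⟨⟨fun x => if x.2 then τ (r x.1 : Fin n) else (r x.1 : Fin n), ?_⟩, ?_, ?_⟩⟩⟩
  · have hsplit : τ.support = (Finset.univ.filter fun w => w < τ w) ∪ (Finset.univ.filter fun w => τ w < w) := by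
      ext w
      simp only [Perm.mem_support, Finset.mem_union, Finset.mem_filter, Finset.mem_univ, true_and]
      constructor
      · intro h
        rcases lt_trichotomy w (τ w) with h' | h' | h'
        exacts [Or.inl h', absurd h'.symm h, Or.inr h']
      · rintro (h | h)
        exacts [h.ne', h.ne]
    have hd : Disjoint (Finset.univ.filter fun w => w < τ w) (Finset.univ.filter fun w => τ w < w) := by
      rw [Finset.disjoint_left]
      intro w h1 h3
      simp only [Finset.mem_filter, Finset.mem_univ, true_and] at h1 h3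
      exact lt_asymm h1 h3
    have heq : (Finset.univ.filter fun w => τ w < w).card = (Finset.univ.filter fun w => w < τ w).card := by
      refine Finset.card_bij (fun w _ => τ w) (fun w hw => ?_) (fun a _ b _ e => τ.injective e)
        (fun w hw => ⟨τ w, ?_, hinv w⟩)
      · simp only [Finset.mem_filter, Finset.mem_univ, true_and] at hw ⊢
        rwa [hinv]
      · simp only [Finset.mem_filter, Finset.mem_univ, true_and] at hw ⊢
        rwa [hinv]
    rw [hsplit, Finset.card_union_of_disjoint hd, heq, Fintype.card_subtype]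
    omega
  · rintro ⟨p, b⟩ ⟨q, c⟩ h
    have hp := (r p).2
    have hq := (r q).2
    cases b <;> cases c <;> simp only [Bool.false_eq_true, if_false, if_true] at h
    · exact Prod.ext (r.injective (Subtype.ext h)) rfl
    · rw [h, hinv] at hp; exact absurd hp (lt_asymm hq)
    · rw [← h, hinv] at hq; exact absurd hq (lt_asymm hp)
    · exact Prod.ext (r.injective (Subtype.ext (τ.injective h))) rfl
  · intro p b
    show τ (if b then τ (r p : Fin n) else (r p : Fin n)) = if !b then τ (r p : Fin n) else (r p : Fin n)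
    cases b <;> simp [hinv]
  · intro w hw
    rcases lt_trichotomy w (τ w) with h | h | h
    · exact ⟨r.symm ⟨w, h⟩, false, (congrArg Subtype.val (r.apply_symm_apply ⟨w, h⟩)).symm⟩
    · exact absurd h.symm hw
    · refine ⟨r.symm ⟨τ w, by rwa [hinv]⟩, true, ?_⟩
      show w = τ ((r (r.symm ⟨τ w, _⟩) : R) : Fin n)
      rw [r.apply_symm_apply, hinv]

variable {τ : Perm (Fin n)} {k : ℕ}

/-- The transposition of one pair. -/
def Pairs.sw (P : Pairs τ k) (p : Fin k) : Perm (Fin n) := swap (P.e (p, false)) (P.e (p, true))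

theorem Pairs.moves (P : Pairs τ k) (p : Fin k) (b : Bool) : τ (P.e (p, b)) ≠ P.e (p, b) := by
  rw [P.flip]
  intro h
  have := congrArg Prod.snd (P.e.injective h)
  simp at this

theorem Pairs.fixed (P : Pairs τ k) {w : Fin n} (h : ∀ p b, w ≠ P.e (p, b)) : τ w = w := by
  by_contra hw
  obtain ⟨p, b, rfl⟩ := P.rest w hw
  exact h p b rfl

theorem Pairs.exists_image (P : Pairs τ k) {σ : Perm (Fin n)} (hc : Commute σ τ) (p : Fin k) :
    ∃ q, ∀ b, ∃ c, σ (P.e (p, b)) = P.e (q, c) := by
  have hcomm : ∀ w, σ (τ w) = τ (σ w) := fun w => Perm.congr_fun hc.eq w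
  obtain ⟨q, c, hq⟩ := P.rest (σ (P.e (p, false))) fun h => P.moves p false
    (σ.injective (by rw [hcomm, h]))
  refine ⟨q, fun b => ?_⟩
  cases b
  · exact ⟨c, hq⟩
  · exact ⟨!c, by rw [← P.flip q c, ← hq, ← hcomm, P.flip]; rfl⟩

/-- The permutation of the pairs induced by a permutation commuting with the involution. -/
noncomputable def Pairs.indFun (P : Pairs τ k) {σ : Perm (Fin n)} (hc : Commute σ τ) (p : Fin k) : Fin k :=
  (P.exists_image hc p).choose

theorem Pairs.indFun_spec (P : Pairs τ k) {σ : Perm (Fin n)} (hc : Commute σ τ) (p : Fin k) (b : Bool) :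
    ∃ c, σ (P.e (p, b)) = P.e (P.indFun hc p, c) :=
  (P.exists_image hc p).choose_spec b

theorem Pairs.indFun_eq (P : Pairs τ k) {σ : Perm (Fin n)} (hc : Commute σ τ) {p q : Fin k} {b c : Bool}
    (h : σ (P.e (p, b)) = P.e (q, c)) : P.indFun hc p = q := by
  obtain ⟨c', hc'⟩ := P.indFun_spec hc p b
  exact congrArg Prod.fst (P.e.injective (hc'.symm.trans h))

/-- Members of the centraliser commute with the involution. -/
theorem cent_comm (σ : centralizer ({τ} : Set (Perm (Fin n)))) : Commute (σ : Perm (Fin n)) τ :=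
  Subgroup.mem_centralizer_singleton_iff.mp σ.2

/-- The action on the pairs, as a homomorphism. -/
noncomputable def Pairs.ind (P : Pairs τ k) : centralizer ({τ} : Set (Perm (Fin n))) →* Perm (Fin k) where
  toFun σ :=
    { toFun := P.indFun (cent_comm σ)
      invFun := P.indFun (cent_comm σ⁻¹)
      left_inv := fun p => by
        obtain ⟨c, hc⟩ := P.indFun_spec (cent_comm σ) p false
        refine P.indFun_eq _ (b := c) (c := false) ?_
        rw [← hc]
        exact (σ : Perm (Fin n)).symm_apply_apply _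
      right_inv := fun p => by
        obtain ⟨c, hc⟩ := P.indFun_spec (cent_comm σ⁻¹) p false
        refine P.indFun_eq _ (b := c) (c := false) ?_
        rw [← hc]
        exact (σ : Perm (Fin n)).apply_symm_apply _ }
  map_one' := Equiv.ext fun p => P.indFun_eq (cent_comm 1) (b := false) (c := false) rfl
  map_mul' := fun σ ρ => Equiv.ext fun p => by
    obtain ⟨c, hc⟩ := P.indFun_spec (cent_comm ρ) p false
    obtain ⟨d, hd⟩ := P.indFun_spec (cent_comm σ) (P.indFun (cent_comm ρ) p) c
    refine P.indFun_eq (cent_comm (σ * ρ)) (b := false) (c := d) ?_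
    show (σ : Perm (Fin n)) ((ρ : Perm (Fin n)) (P.e (p, false))) = _
    rw [hc, hd]
    rfl

theorem Pairs.ind_spec (P : Pairs τ k) (σ : centralizer ({τ} : Set (Perm (Fin n)))) (p : Fin k) (b : Bool) :
    ∃ c, (σ : Perm (Fin n)) (P.e (p, b)) = P.e (P.ind σ p, c) :=
  P.indFun_spec (cent_comm σ) p b

theorem Pairs.ind_eq (P : Pairs τ k) (σ : centralizer ({τ} : Set (Perm (Fin n)))) {p q : Fin k} {b c : Bool}
    (h : (σ : Perm (Fin n)) (P.e (p, b)) = P.e (q, c)) : P.ind σ p = q :=
  P.indFun_eq (cent_comm σ) h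

/-- A permutation of the pairs, as a permutation of the points. -/
noncomputable def Pairs.blow (P : Pairs τ k) (ρ : Perm (Fin k)) : Perm (Fin n) :=
  Perm.viaEmbedding (ρ.prodCongr (1 : Perm Bool)) P.e

theorem Pairs.blow_apply (P : Pairs τ k) (ρ : Perm (Fin k)) (p : Fin k) (b : Bool) :
    P.blow ρ (P.e (p, b)) = P.e (ρ p, b) :=
  Perm.viaEmbedding_apply _ P.e (p, b)

theorem Pairs.blow_fix (P : Pairs τ k) (ρ : Perm (Fin k)) {w : Fin n} (h : ∀ p b, w ≠ P.e (p, b)) :
    P.blow ρ w = w :=
  Perm.viaEmbedding_apply_of_notMem _ P.e w fun ⟨⟨p, b⟩, e⟩ => h p b e.symm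

theorem Pairs.blow_mul (P : Pairs τ k) (ρ ρ' : Perm (Fin k)) : P.blow (ρ * ρ') = P.blow ρ * P.blow ρ' := by
  ext w
  by_cases h : ∃ p b, w = P.e (p, b)
  · obtain ⟨p, b, rfl⟩ := h
    rw [Perm.mul_apply, P.blow_apply, P.blow_apply, P.blow_apply]
    rfl
  · push Not at h
    rw [Perm.mul_apply, P.blow_fix _ h, P.blow_fix _ h, P.blow_fix _ h]

theorem Pairs.blow_one (P : Pairs τ k) : P.blow 1 = 1 := by
  ext w
  by_cases h : ∃ p b, w = P.e (p, b)
  · obtain ⟨p, b, rfl⟩ := h
    rw [P.blow_apply]; rfl
  · push Not at h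
    rw [P.blow_fix _ h]; rfl

theorem Pairs.blow_comm (P : Pairs τ k) (ρ : Perm (Fin k)) : Commute (P.blow ρ) τ := by
  refine Perm.ext fun w => ?_
  rw [Perm.mul_apply, Perm.mul_apply]
  by_cases h : ∃ p b, w = P.e (p, b)
  · obtain ⟨p, b, rfl⟩ := h
    rw [P.flip, P.blow_apply, P.blow_apply, P.flip]
  · push Not at h
    rw [P.fixed h, P.blow_fix _ h, P.fixed h]

theorem Pairs.sign_blow (P : Pairs τ k) (ρ : Perm (Fin k)) : Perm.sign (P.blow ρ) = 1 := by
  classical
  rw [Pairs.blow, Perm.viaEmbedding, Perm.sign_extendDomain,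
    show ρ.prodCongr (1 : Perm Bool) = prodCongrLeft (fun _ => ρ) from Equiv.ext fun _ => rfl,
    Perm.sign_prodCongrLeft, Finset.prod_const, Finset.card_univ, Fintype.card_bool, Int.units_sq]

theorem Pairs.ind_blow (P : Pairs τ k) (ρ : Perm (Fin k)) :
    P.ind ⟨P.blow ρ, Subgroup.mem_centralizer_singleton_iff.mpr (P.blow_comm ρ).eq⟩ = ρ :=
  Equiv.ext fun p => P.ind_eq _ (b := false) (c := false) (P.blow_apply ρ p false)

variable {E : Type*} [Group E] [Finite E] {π : E →* Perm (Fin n)} {z t : E}

/-- The image of an element of the centraliser. -/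
def toCent (π : E →* Perm (Fin n)) (t : E) :
    centralizer ({t} : Set E) →* centralizer ({π t} : Set (Perm (Fin n))) where
  toFun h := ⟨π h, Subgroup.mem_centralizer_singleton_iff.mpr (by
    rw [← map_mul, ← map_mul, Subgroup.mem_centralizer_singleton_iff.mp h.2])⟩
  map_one' := Subtype.ext (map_one π)
  map_mul' _ _ := Subtype.ext (map_mul π _ _)

/-- All lifts of even permutations of the pairs centralise. -/
theorem Cov.blow_commute (h : Cov π z) (P : Pairs (π t) k) {ρ : Perm (Fin k)} (hρ : Perm.sign ρ = 1) :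
    ∀ x, π x = P.blow ρ → Commute x t := by
  let L : Subgroup (Perm (Fin k)) :=
    { carrier := {ρ | ∀ x, π x = P.blow ρ → Commute x t}
      one_mem' := fun x hx => (h.cover.cen (hx.trans P.blow_one) t).symm
      mul_mem' := by
        intro a b ha hb x hx
        obtain ⟨u, hu⟩ := h.cover.onto _ (P.sign_blow a)
        obtain ⟨v, hv⟩ := h.cover.onto _ (P.sign_blow b)
        exact h.cover.commute_congr (x := u * v) (by rw [hx, P.blow_mul, map_mul, hu, hv]) rfl
          ((ha u hu).mul_left (hb v hv))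
      inv_mem' := by
        intro a ha x hx
        have := ha x⁻¹ (by
          rw [map_inv, hx]
          refine inv_eq_of_mul_eq_one_left ?_
          rw [← P.blow_mul, mul_inv_cancel, P.blow_one])
        simpa using this.inv_left }
  have hle : alternatingGroup (Fin k) ≤ L := by
    rw [← Equiv.Perm.closure_three_cycles_eq_alternating, Subgroup.closure_le]
    intro r hr x hx
    refine h.odd_commute (m := 3) ⟨1, rfl⟩ ?_ (by rw [hx]; exact P.blow_comm r)
    rw [map_pow, hx, pow_three, ← P.blow_mul, ← P.blow_mul, ← pow_three, ← hr.orderOf, pow_orderOf_eq_one, P.blow_one]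
  exact fun x hx => hle (Perm.mem_alternatingGroup.mpr hρ) x hx

/-- The lift of the transpositions of two pairs centralises. -/
theorem Cov.two_pairs (h : Cov π z) (P : Pairs (π t) k) {p q : Fin k} (hpq : p ≠ q) {x : E}
    (hx : π x = P.sw p * P.sw q) : Commute x t := by
  have hnd : [P.e (p, false), P.e (p, true), P.e (q, false), P.e (q, true)].Nodup := by
    simp [hpq]
  have hev : ∀ w, π x w = if w = P.e (p, false) ∨ w = P.e (p, true) ∨ w = P.e (q, false) ∨ w = P.e (q, true)
      then π t w else w := by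
    intro w
    rw [hx, Perm.mul_apply]
    by_cases w1 : w = P.e (p, false)
    · subst w1; simp [Pairs.sw, swap_apply_of_ne_of_ne, hpq, P.flip]
    by_cases w2 : w = P.e (p, true)
    · subst w2; simp [Pairs.sw, swap_apply_of_ne_of_ne, hpq, P.flip]
    by_cases w3 : w = P.e (q, false)
    · subst w3; simp [Pairs.sw, swap_apply_of_ne_of_ne, hpq, hpq.symm, P.flip]
    by_cases w4 : w = P.e (q, true)
    · subst w4; simp [Pairs.sw, swap_apply_of_ne_of_ne, hpq, hpq.symm, P.flip]
    simp [Pairs.sw, w1, w2, w3, w4, swap_apply_of_ne_of_ne]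
  have hinvol : ∀ w, π t (π t w) = w := fun w => by
    by_cases h' : ∃ r b, w = P.e (r, b)
    · obtain ⟨r, b, rfl⟩ := h'
      rw [P.flip, P.flip, Bool.not_not]
    · push Not at h'
      rw [P.fixed h', P.fixed h']
  have hev' : ∀ w, π (x * t) w = if w = P.e (p, false) ∨ w = P.e (p, true) ∨ w = P.e (q, false) ∨ w = P.e (q, true)
      then w else π t w := by
    intro w
    rw [map_mul, Perm.mul_apply, hev]
    by_cases hw : w = P.e (p, false) ∨ w = P.e (p, true) ∨ w = P.e (q, false) ∨ w = P.e (q, true)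
    · rw [if_pos hw, if_pos ?_, hinvol]
      rcases hw with rfl | rfl | rfl | rfl <;> simp [P.flip]
    · rw [if_neg hw, if_neg ?_]
      intro hw'
      refine hw ?_
      rcases hw' with e | e | e | e <;> have e' := congrArg (π t) e <;> rw [hinvol, P.flip] at e' <;>
        simp only [Bool.not_false, Bool.not_true] at e' <;> tauto
  have hd : Commute x (x * t) := h.cover.commute_disjoint x (π (x * t)) (h.cover.even _) (fun w hw => by
    rw [hev'] at hw
    rw [hev]
    split at hw
    · exact absurd rfl hw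
    · rw [if_neg]; assumption) _ rfl
  have := ((Commute.refl x).inv_right.mul_right hd)
  rwa [inv_mul_cancel_left] at this

end CfsgAltCentInv
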