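import Cfsg.Agent.Lib.AltCentInv.Roots

/-!
Degree twelve: classes of roots.
-/

set_option autoImplicit false
set_option linter.unusedSectionVars false

namespace CfsgAltCentInv

open Equiv Subgroup
open CfsgAltCover.Anti (conj_pair)

variable {E : Type*} [Group E] [Finite E] {π : E →* Perm (Fin 12)} {z t : E}

/-- An enumeration of the four fixed points. -/
theorem exists_fixed (P : Pairs (π t) 4) :
    ∃ f : Fin 4 ↪ Fin 12, (∀ i p b, f i ≠ P.e (p, b)) ∧ ∀ w, (∃ p b, w = P.e (p, b)) ∨ ∃ i, w = f i := by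
  classical
  let S : Finset (Fin 12) := (Finset.univ.map P.e)ᶜ
  have hS : S.card = 4 := by
    rw [Finset.card_compl, Finset.card_map, Finset.card_univ]
    simp
  refine ⟨(S.orderEmbOfFin hS).toEmbedding, fun i p b e => ?_, fun w => ?_⟩
  · have := S.orderEmbOfFin_mem hS i
    rw [Finset.mem_compl, show (S.orderEmbOfFin hS) i = P.e (p, b) from e] at this
    exact this (Finset.mem_map_of_mem _ (Finset.mem_univ _))
  · by_cases hw : w ∈ S
    · rw [← Finset.mem_coe, ← Finset.range_orderEmbOfFin S hS] at hw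
      obtain ⟨i, rfl⟩ := hw
      exact Or.inr ⟨i, rfl⟩
    · simp only [S, Finset.mem_compl, not_not, Finset.mem_map, Finset.mem_univ, true_and] at hw
      obtain ⟨⟨p, b⟩, rfl⟩ := hw
      exact Or.inl ⟨p, b, rfl⟩

variable {f : Fin 4 ↪ Fin 12}

theorem sw_other (P : Pairs (π t) 4) {p r : Fin 4} (h : r ≠ p) (b : Bool) : P.sw p (P.e (r, b)) = P.e (r, b) :=
  swap_apply_of_ne_of_ne (by simp [h]) (by simp [h])

theorem sw_self (P : Pairs (π t) 4) (p : Fin 4) (b : Bool) : P.sw p (P.e (p, b)) = P.e (p, !b) := by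
  cases b
  · exact swap_apply_left _ _
  · exact swap_apply_right _ _

theorem fix_f (P : Pairs (π t) 4) (hf : ∀ i p b, f i ≠ P.e (p, b)) (i : Fin 4) : π t (f i) = f i :=
  P.fixed fun p b => hf i p b

/-- Lifts of even permutations of the fixed points centralise. -/
theorem Cov.fixed_commute (h : Cov π z) (P : Pairs (π t) 4) (hf : ∀ i p b, f i ≠ P.e (p, b)) {c : Perm (Fin 4)}
    (hc : Perm.sign c = 1) {x : E} (hx : π x = Perm.viaEmbedding c f) : Commute x t := by
  classical
  refine (h.cover.commute_disjoint t _ ?_ (fun w hw => ?_) x hx).symm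
  · rw [Perm.viaEmbedding, Perm.sign_extendDomain, hc]
  · by_cases hm : w ∈ Set.range f
    · obtain ⟨i, rfl⟩ := hm
      exact fix_f P hf i
    · exact absurd (Perm.viaEmbedding_apply_of_notMem _ f w hm) hw

theorem three_pairings : ∀ σ : Perm (Fin 4), σ * σ = 1 → (∀ i, σ i ≠ i) →
    σ = swap 0 1 * swap 2 3 ∨ σ = swap 0 2 * swap 1 3 ∨ σ = swap 0 3 * swap 1 2 := by decide +kernel

/-- The central involution has a root with a class of at most six elements. -/
theorem Cov.twelve_z (h : Cov π z) (P : Pairs (π t) 4) :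
    ∃ x : centralizer ({t} : Set E), (x : E) * x = z ∧ (cls x).ncard ≤ 6 := by
  classical
  obtain ⟨f, hf, hall⟩ := exists_fixed P
  set c0 : Perm (Fin 4) := swap 0 1 * swap 2 3 with hc0
  have hvia : Perm.viaEmbedding c0 f = dbl (f 0) (f 1) (f 2) (f 3) := by
    ext w : 1
    by_cases hm : w ∈ Set.range f
    · obtain ⟨i, rfl⟩ := hm
      rw [Perm.viaEmbedding_apply, hc0, dbl, Perm.mul_apply, Perm.mul_apply, f.injective.map_swap, f.injective.map_swap]
    · rw [Perm.viaEmbedding_apply_of_notMem _ f w hm, dbl, Perm.mul_apply]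
      have : ∀ i, w ≠ f i := fun i e => hm ⟨i, e.symm⟩
      rw [swap_apply_of_ne_of_ne (this 2) (this 3), swap_apply_of_ne_of_ne (this 0) (this 1)]
  have hnd : [f 0, f 1, f 2, f 3].Nodup := by simp
  obtain ⟨Q, hQ⟩ := h.cover.onto (Perm.viaEmbedding c0 f) (hvia ▸ sign_dbl hnd)
  let x : centralizer ({t} : Set E) :=
    ⟨Q, Subgroup.mem_centralizer_singleton_iff.mpr (h.fixed_commute P hf (by decide) hQ).eq⟩
  refine ⟨x, h.dbl_sq hnd (hQ.trans hvia), ?_⟩
  let I : Set (Perm (Fin 12)) := ↑(({swap 0 1 * swap 2 3, swap 0 2 * swap 1 3, swap 0 3 * swap 1 2} :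
    Finset (Perm (Fin 4))).image fun c => Perm.viaEmbedding c f)
  refine (h.ncard_le Subtype.val_injective _ I ?_).trans ?_
  · rintro _ ⟨g, rfl⟩
    set σ := toCent π t g
    have hmap : ∀ i, ∃ j, (σ : Perm (Fin 12)) (f i) = f j := by
      intro i
      rcases hall ((σ : Perm (Fin 12)) (f i)) with ⟨p, b, e⟩ | hj
      · exfalso
        have := Perm.congr_fun (cent_comm σ).eq (f i)
        rw [Perm.mul_apply, Perm.mul_apply, fix_f P hf, e] at this
        exact P.moves p b this.symm
      · exact hj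
    choose r hr using hmap
    have hrinj : Function.Injective r := fun a b e => f.injective ((σ : Perm (Fin 12)).injective (by rw [hr, hr, e]))
    let ρ : Perm (Fin 4) := Equiv.ofBijective r (Finite.injective_iff_bijective.mp hrinj)
    have him : π ((g * x * g⁻¹ : centralizer ({t} : Set E)) : E) = Perm.viaEmbedding (ρ * c0 * ρ⁻¹) f := by
      show π ((g : E) * Q * (g : E)⁻¹) = _
      rw [map_mul, map_mul, map_inv, hQ, mul_inv_eq_iff_eq_mul]
      show (σ : Perm (Fin 12)) * _ = _ * (σ : Perm (Fin 12))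
      ext w : 1
      rw [Perm.mul_apply, Perm.mul_apply]
      rcases hall w with ⟨p, b, rfl⟩ | ⟨i, rfl⟩
      · have h1 : ∀ q b, P.e (q, b) ∉ Set.range f := fun q b ⟨i, e⟩ => hf i q b e
        obtain ⟨c, hc⟩ := P.ind_spec σ p b
        rw [Perm.viaEmbedding_apply_of_notMem _ f _ (h1 p b), hc, Perm.viaEmbedding_apply_of_notMem _ f _ (h1 _ c)]
      · rw [Perm.viaEmbedding_apply, hr, hr, Perm.viaEmbedding_apply, Perm.mul_apply, Perm.mul_apply]
        congr 1
        show ρ (c0 i) = ρ (c0 (ρ⁻¹ (ρ i)))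
        rw [Perm.coe_inv, Equiv.symm_apply_apply]
    rw [him]
    simp only [I, Finset.coe_image, Set.mem_image, Finset.mem_coe, Finset.mem_insert, Finset.mem_singleton]
    refine ⟨_, three_pairings _ ?_ ?_, rfl⟩
    · rw [show ρ * c0 * ρ⁻¹ * (ρ * c0 * ρ⁻¹) = ρ * (c0 * c0) * ρ⁻¹ by group,
        show c0 * c0 = 1 by rw [hc0]; decide, mul_one, mul_inv_cancel]
    · intro i e
      have h0 : ∀ i : Fin 4, c0 i ≠ i := by rw [hc0]; decide
      refine h0 (ρ⁻¹ i) (ρ.injective ?_)
      rw [show ρ (c0 (ρ⁻¹ i)) = i from e, Perm.coe_inv, Equiv.apply_symm_apply]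
  · rw [Set.ncard_coe_finset]
    calc 2 * _ ≤ 2 * 3 := Nat.mul_le_mul_left 2 (Finset.card_image_le.trans Finset.card_le_three)
      _ = 6 := rfl

theorem rot_distinct : ∀ σ : Perm (Fin 4), σ * σ = 1 → (∀ i, σ i ≠ i) → ∀ i j : Fin 3, i ≠ j →
    (swap 0 1 * swap 1 2 : Perm (Fin 4)) ^ (i : ℕ) * σ * ((swap 0 1 * swap 1 2 : Perm (Fin 4)) ^ (i : ℕ))⁻¹ ≠
      (swap 0 1 * swap 1 2 : Perm (Fin 4)) ^ (j : ℕ) * σ * ((swap 0 1 * swap 1 2 : Perm (Fin 4)) ^ (j : ℕ))⁻¹ := by
  decide +kernel

theorem even_fpf : ∀ σ : Perm (Fin 4), σ * σ = 1 → Perm.sign σ = 1 → σ ≠ 1 → ∀ i, σ i ≠ i := by decide +kernel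

/-- Roots of the other involution have classes of more than six elements. -/
theorem Cov.twelve_t (h : Cov π z) (P : Pairs (π t) 4) {y : centralizer ({t} : Set E)} (hy : (y : E) * y = t) :
    6 < (cls y).ncard := by
  classical
  obtain ⟨f, hf, hall⟩ := exists_fixed P
  set s := P.ind (toCent π t y) with hs
  obtain ⟨hs2, hsf⟩ := h.root_ind P hy
  rw [← hs] at hs2 hsf
  have hysq : ∀ w, π (y : E) (π (y : E) w) = π t w := fun w =>
    Perm.congr_fun ((map_mul π (y : E) y).symm.trans (congrArg π hy)) w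
  have hcy : ∀ w, π t (π (y : E) w) = π (y : E) (π t w) := fun w => by rw [← hysq, ← hysq]
  have hmapf : ∀ i, ∃ j, π (y : E) (f i) = f j := by
    intro i
    rcases hall (π (y : E) (f i)) with ⟨p, b, e⟩ | hj
    · exact absurd (by rw [← e, hcy, fix_f P hf]) (P.moves p b)
    · exact hj
  choose r hr using hmapf
  have hrinj : Function.Injective r := fun a b e => f.injective ((π (y : E)).injective (by rw [hr, hr, e]))
  let ρ : Perm (Fin 4) := Equiv.ofBijective r (Finite.injective_iff_bijective.mp hrinj)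
  have hρ2 : ρ * ρ = 1 := Equiv.ext fun i => f.injective (by
    have := hysq (f i)
    rw [hr, hr, fix_f P hf] at this
    exact this)
  -- the rotations
  set R : Perm (Fin 4) := swap 0 1 * swap 1 2 with hR
  have hR1 : Perm.sign R = 1 := by rw [hR]; decide
  obtain ⟨gp, hgp⟩ := h.cover.onto _ (P.sign_blow R)
  obtain ⟨gc, hgc⟩ := h.cover.onto (Perm.viaEmbedding R f) (by rw [Perm.viaEmbedding, Perm.sign_extendDomain, hR1])
  let Gp : centralizer ({t} : Set E) :=
    ⟨gp, Subgroup.mem_centralizer_singleton_iff.mpr (h.blow_commute P hR1 gp hgp).eq⟩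
  let Gc : centralizer ({t} : Set E) :=
    ⟨gc, Subgroup.mem_centralizer_singleton_iff.mpr (h.fixed_commute P hf hR1 hgc).eq⟩
  have hGp : P.ind (toCent π t Gp) = R := by
    conv_rhs => rw [← P.ind_blow R]
    exact congrArg P.ind (Subtype.ext hgp)
  have hnotf : ∀ q b, P.e (q, b) ∉ Set.range f := fun q b ⟨i, e⟩ => hf i q b e
  have hGc : P.ind (toCent π t Gc) = 1 := Equiv.ext fun p => P.ind_eq _ (b := false) (c := false) (by
    show π gc (P.e (p, false)) = _
    rw [hgc, Perm.viaEmbedding_apply_of_notMem _ f _ (hnotf p false)]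
    rfl)
  have hpairs : ∀ (a : ℕ) (g : centralizer ({t} : Set E)), P.ind (toCent π t g) = 1 →
      P.ind (toCent π t (Gp ^ a * (g * y * g⁻¹) * (Gp ^ a)⁻¹)) = R ^ a * s * (R ^ a)⁻¹ := fun a g hg => by
    simp only [map_mul, map_inv, map_pow, hGp, hg, one_mul, inv_one, mul_one, ← hs]
  by_cases hρ : ρ = 1
  swap
  · -- the fixed points separate further
    have hρe : Perm.sign ρ = 1 := by
      have hfix : ∀ p b, (π (y : E)) (P.e (p, b)) ∉ Set.range f := fun p b => by
        obtain ⟨c, hc⟩ := P.ind_spec (toCent π t y) p b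
        rw [show π (y : E) (P.e (p, b)) = (toCent π t y : Perm (Fin 12)) (P.e (p, b)) from rfl, hc]
        exact hnotf _ _
      by_contra hodd
      have hodd' : Perm.sign ρ = -1 := (Int.units_eq_one_or _).resolve_left hodd
      have hm2 : (π (y : E) * Perm.viaEmbedding ρ f) * (π (y : E) * Perm.viaEmbedding ρ f) = π t := by
        ext w : 1
        rcases hall w with ⟨p, b, rfl⟩ | ⟨i, rfl⟩
        · show π (y : E) (Perm.viaEmbedding ρ f (π (y : E) (Perm.viaEmbedding ρ f (P.e (p, b))))) = _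
          rw [Perm.viaEmbedding_apply_of_notMem _ f _ (hnotf p b), Perm.viaEmbedding_apply_of_notMem _ f _ (hfix p b), hysq]
        · show π (y : E) (Perm.viaEmbedding ρ f (π (y : E) (Perm.viaEmbedding ρ f (f i)))) = _
          rw [Perm.viaEmbedding_apply, hr, Perm.viaEmbedding_apply, hr, fix_f P hf]
          congr 1
          have hh : ∀ i, ρ (ρ i) = i := fun i => by rw [← Perm.mul_apply, hρ2]; rfl
          show ρ (ρ (ρ (ρ i))) = i
          rw [hh, hh]
      -- a root of the image moving only the pairs is even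
      have heven : Perm.sign (π (y : E) * Perm.viaEmbedding ρ f) = 1 := by
        set m := π (y : E) * Perm.viaEmbedding ρ f
        have hfixf : ∀ i, m (f i) = f i := fun i => by
          show π (y : E) (Perm.viaEmbedding ρ f (f i)) = _
          rw [Perm.viaEmbedding_apply, hr]
          congr 1
          show ρ (ρ i) = i
          rw [← Perm.mul_apply, hρ2]; rfl
        have hsupp : m.support = Finset.univ.map P.e := by
          ext w
          simp only [Perm.mem_support, Finset.mem_map, Finset.mem_univ, true_and]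
          constructor
          · intro hw
            rcases hall w with ⟨p, b, rfl⟩ | ⟨i, rfl⟩
            · exact ⟨(p, b), rfl⟩
            · exact absurd (hfixf i) hw
          · rintro ⟨⟨p, b⟩, rfl⟩ e
            have := Perm.congr_fun hm2 (P.e (p, b))
            rw [Perm.mul_apply, e, e] at this
            exact P.moves p b this.symm
        have h4 : ∀ c ∈ m.cycleType, c = 4 := by
          intro c hc
          obtain ⟨ct, hct, rfl⟩ : ∃ ct ∈ m.cycleFactorsFinset, ct.support.card = c := by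
            rw [Perm.cycleType_def, Multiset.mem_map] at hc
            exact hc
          obtain ⟨w, hw⟩ : ct.support.Nonempty := (Perm.mem_cycleFactorsFinset_iff.mp hct).1.nonempty_support
          have hct4 : ct = m.cycleOf w := Perm.cycle_is_cycleOf hw hct
          have hwm : w ∈ Finset.univ.map P.e := hsupp ▸ Perm.mem_cycleFactorsFinset_support_le hct hw
          obtain ⟨⟨p, b⟩, -, rfl⟩ := Finset.mem_map.mp hwm
          have ho : orderOf ct = ct.support.card := (Perm.mem_cycleFactorsFinset_iff.mp hct).1.orderOf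
          have hd : ct.support.card ∣ 4 := by
            rw [← ho, hct4]
            refine orderOf_dvd_of_pow_eq_one ((Perm.IsCycle.pow_eq_one_iff' (x := P.e (p, b)) ?_ ?_).mpr ?_)
            · exact hct4 ▸ (Perm.mem_cycleFactorsFinset_iff.mp hct).1
            · rw [← hct4]; exact Perm.mem_support.mp hw
            · rw [Perm.cycleOf_pow_apply_self, show m ^ 4 = (m * m) * (m * m) from by rw [pow_succ, pow_succ, pow_succ, pow_one]; simp only [mul_assoc], hm2, Perm.mul_apply,
                P.flip, P.flip, Bool.not_not]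
          have h2 : 2 ≤ ct.support.card := (Perm.mem_cycleFactorsFinset_iff.mp hct).1.two_le_card_support
          have hn2 : ct.support.card ≠ 2 := by
            intro e2
            have h1 : ct ^ 2 = 1 := by rw [← e2, ← ho]; exact pow_orderOf_eq_one ct
            have := Perm.congr_fun h1 (P.e (p, b))
            rw [hct4, Perm.cycleOf_pow_apply_self, pow_two, hm2, P.flip] at this
            simpa using congrArg Prod.snd (P.e.injective this)
          obtain ⟨i, hi, e⟩ := (Nat.dvd_prime_pow Nat.prime_two).mp (show ct.support.card ∣ 2 ^ 2 from hd)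
          interval_cases i <;> omega
        have hrep := Multiset.eq_replicate_card.mpr h4
        have hsum := Perm.sum_cycleType m
        rw [hrep, Multiset.sum_replicate, hsupp, Finset.card_map, Finset.card_univ] at hsum
        simp at hsum
        rw [Perm.sign_of_cycleType, hrep, Multiset.sum_replicate, Multiset.card_replicate,
          show Multiset.card m.cycleType = 2 by omega]
        decide
      rw [map_mul, h.cover.even, Perm.viaEmbedding, Perm.sign_extendDomain, hodd'] at heven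
      exact absurd heven (by decide)
    let F : Fin 3 × Fin 3 → centralizer ({t} : Set E) := fun ab =>
      Gp ^ (ab.1 : ℕ) * (Gc ^ (ab.2 : ℕ) * y * (Gc ^ (ab.2 : ℕ))⁻¹) * (Gp ^ (ab.1 : ℕ))⁻¹
    have hfp : ∀ (a : ℕ) i, π ((Gp ^ a : centralizer ({t} : Set E)) : E) (f i) = f i := fun a i => by
      rw [Subgroup.coe_pow, map_pow]
      refine Perm.pow_apply_eq_self_of_apply_eq_self ?_ a
      show π gp (f i) = f i
      rw [hgp, P.blow_fix _ (hf i)]
    have hfc : ∀ (a : ℕ) i, π ((Gc ^ a : centralizer ({t} : Set E)) : E) (f i) = f ((R ^ a) i) := by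
      intro a
      induction a with
      | zero => intro i; simp
      | succ a ih =>
        intro i
        rw [pow_succ, pow_succ, Subgroup.coe_mul, map_mul, Perm.mul_apply, Perm.mul_apply]
        show π ((Gc ^ a : centralizer ({t} : Set E)) : E) (π gc (f i)) = _
        rw [hgc, Perm.viaEmbedding_apply, ih]
    have hF : Function.Injective F := by
      rintro ⟨a, b⟩ ⟨a', b'⟩ e
      have e1 := congrArg (fun x => P.ind (toCent π t x)) e
      simp only [F] at e1
      rw [hpairs _ _ (by rw [map_pow, map_pow, hGc, one_pow]), hpairs _ _ (by rw [map_pow, map_pow, hGc, one_pow])] at e1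
      have haa : a = a' := by
        by_contra hne
        exact rot_distinct s hs2 hsf a a' hne e1
      subst haa
      have e2 : Gc ^ (b : ℕ) * y * (Gc ^ (b : ℕ))⁻¹ = Gc ^ (b' : ℕ) * y * (Gc ^ (b' : ℕ))⁻¹ :=
        mul_left_cancel (mul_right_cancel e)
      have hval : ∀ (c : ℕ) i, π ((Gc ^ c * y * (Gc ^ c)⁻¹ : centralizer ({t} : Set E)) : E) (f i) =
          f ((R ^ c * ρ * (R ^ c)⁻¹) i) := fun c i => by
        obtain ⟨j, rfl⟩ := (R ^ c).surjective i
        rw [Subgroup.coe_mul, Subgroup.coe_mul, Subgroup.coe_inv, map_mul, map_mul, map_inv, Perm.mul_apply,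
          Perm.mul_apply, ← hfc, Perm.coe_inv, Equiv.symm_apply_apply, hr, hfc, Perm.mul_apply, Perm.mul_apply,
          Perm.coe_inv, Equiv.symm_apply_apply]
        rfl
      have : b = b' := by
        by_contra hne
        refine rot_distinct ρ hρ2 (even_fpf ρ hρ2 hρe hρ) b b' hne (Equiv.ext fun i => f.injective ?_)
        rw [← hval, ← hval, e2]
      rw [this]
    have hsub : Set.range F ⊆ cls y := by
      rintro _ ⟨ab, rfl⟩
      exact ⟨Gp ^ (ab.1 : ℕ) * Gc ^ (ab.2 : ℕ), by simp only [F]; group⟩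
    have h9 := Set.ncard_le_ncard hsub (Set.toFinite _)
    rw [Set.ncard_range_of_injective hF] at h9
    simp at h9
    omega
  -- only the pairs are moved
  have hyf : ∀ i, π (y : E) (f i) = f i := fun i => by rw [hr]; exact congrArg f (Perm.congr_fun hρ i)
  obtain ⟨c, hc⟩ := P.ind_spec (toCent π t y) 0 false
  rw [← hs] at hc
  change π (y : E) (P.e (0, false)) = P.e (s 0, c) at hc
  set a := P.e (0, false) with ha
  set ta := P.e (0, true) with hta
  set b := P.e (s 0, c) with hb
  set tb := P.e (s 0, !c) with htb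
  have y1 : π (y : E) b = ta := by rw [← hc, hysq, ha, P.flip]; rfl
  have y2 : π (y : E) ta = tb := by rw [← y1, hysq, hb, P.flip]
  have y3 : π (y : E) tb = a := by rw [← y2, hysq, hta, P.flip]; rfl
  have hs0 : s 0 ≠ 0 := hsf 0
  have n1 : a ≠ b ∧ a ≠ ta ∧ a ≠ tb ∧ b ≠ ta ∧ b ≠ tb ∧ ta ≠ tb := by
    simp [ha, hb, hta, htb, hs0, hs0.symm]
  obtain ⟨nab, nata, natb, nbta, nbtb, ntatb⟩ := n1
  have nf : ∀ i, f i ≠ a ∧ f i ≠ b ∧ f i ≠ ta ∧ f i ≠ tb := fun i => ⟨hf i _ _, hf i _ _, hf i _ _, hf i _ _⟩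
  have f01 : f 0 ≠ f 1 := by simp
  have f02 : f 0 ≠ f 2 := by simp
  have f03 : f 0 ≠ f 3 := by simp
  have f12 : f 1 ≠ f 2 := by simp
  have f13 : f 1 ≠ f 3 := by simp
  have f23 : f 2 ≠ f 3 := by simp
  obtain ⟨⟨fa0, fb0, fta0, ftb0⟩, fa1, fb1, fta1, ftb1⟩ := And.intro (nf 0) (nf 1)
  obtain ⟨⟨fa2, fb2, fta2, ftb2⟩, fa3, fb3, fta3, ftb3⟩ := And.intro (nf 2) (nf 3)
  -- half of the root with a transposition of fixed points
  obtain ⟨l, hl⟩ : ∃ l, l = swap a b * swap b ta := ⟨_, rfl⟩
  obtain ⟨m, hm⟩ : ∃ m, m = dbl ta tb (f 0) (f 1) := ⟨_, rfl⟩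
  obtain ⟨d, hd⟩ : ∃ d, d = dbl (f 0) (f 1) (f 2) (f 3) := ⟨_, rfl⟩
  obtain ⟨L, hL⟩ := h.cover.onto l (by rw [hl, map_mul, Perm.sign_swap nab, Perm.sign_swap nbta]; rfl)
  obtain ⟨M, hM⟩ := h.cover.onto m (hm ▸ sign_dbl (by simp [ntatb, fta0.symm, fta1.symm, ftb0.symm, ftb1.symm]))
  obtain ⟨D, hD⟩ := h.cover.onto d (hd ▸ sign_dbl (by simp))
  obtain ⟨g, hg⟩ : ∃ g, g = L * M := ⟨_, rfl⟩
  have gv : ∀ w, π g w = if w = a then b else if w = b then ta else if w = ta then tb else if w = tb then a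
      else if w = f 0 then f 1 else if w = f 1 then f 0 else w := by
    intro w
    rw [hg, map_mul, hL, hM, hl, hm, dbl]
    simp only [Perm.mul_apply]
    by_cases w1 : w = a
    · subst w1; simp [swap_apply_of_ne_of_ne, nab, nata, natb, fa0.symm, fa1.symm]
    by_cases w2 : w = b
    · subst w2; simp [swap_apply_of_ne_of_ne, nab.symm, nbta, nbtb, nata.symm, nbta.symm, fb0.symm, fb1.symm]
    by_cases w3 : w = ta
    · subst w3; simp [swap_apply_of_ne_of_ne, nata.symm, nbta.symm, natb.symm, nbtb.symm, ntatb.symm, fta0.symm, fta1.symm, nata, natb, nbta, nbtb]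
    by_cases w4 : w = tb
    · subst w4; simp [swap_apply_of_ne_of_ne, natb.symm, nbtb.symm, ntatb.symm, ftb0.symm, ftb1.symm]
    by_cases w5 : w = f 0
    · subst w5; simp [swap_apply_of_ne_of_ne, fa0, fb0, fta0, ftb0, fa1, fb1, fta1, ftb1]
    by_cases w6 : w = f 1
    · subst w6; simp [swap_apply_of_ne_of_ne, fa0, fb0, fta0, ftb0, fa1, fb1, fta1, ftb1, f01.symm]
    simp [swap_apply_of_ne_of_ne, w1, w2, w3, w4, w5, w6]
  have ga : π g a = b := by simp [gv]
  have gb : π g b = ta := by simp [gv, nab.symm]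
  have gta : π g ta = tb := by simp [gv, nata.symm, nbta.symm]
  have gtb : π g tb = a := by simp [gv, natb.symm, nbtb.symm, ntatb.symm]
  have gf0 : π g (f 0) = f 1 := by simp [gv, fa0, fb0, fta0, ftb0]
  have gf1 : π g (f 1) = f 0 := by simp [gv, fa1, fb1, fta1, ftb1, f01.symm]
  have ta_eq : π t a = ta := P.flip 0 false
  have tta_eq : π t ta = a := P.flip 0 true
  have tb_eq : π t b = tb := P.flip _ _
  have ttb_eq : π t tb = b := by rw [htb, hb, P.flip, Bool.not_not]
  have gfix : ∀ w, π g w ≠ w → π t w = π g (π g w) := by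
    intro w hw
    rw [gv] at hw
    by_cases w1 : w = a
    · rw [w1, ga, gb, ta_eq]
    by_cases w2 : w = b
    · rw [w2, gb, gta, tb_eq]
    by_cases w3 : w = ta
    · rw [w3, gta, gtb, tta_eq]
    by_cases w4 : w = tb
    · rw [w4, gtb, ga, ttb_eq]
    by_cases w5 : w = f 0
    · rw [w5, gf0, gf1, fix_f P hf]
    by_cases w6 : w = f 1
    · rw [w6, gf1, gf0, fix_f P hf]
    simp [w1, w2, w3, w4, w5, w6] at hw
  have hgt : Commute g t := by
    have hr' : Commute g ((g * g)⁻¹ * t) := h.cover.commute_disjoint g (π ((g * g)⁻¹ * t)) (h.cover.even _)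
      (fun w hw => by
        by_contra hne
        refine hw ?_
        rw [map_mul, map_inv, map_mul, Perm.mul_apply, gfix w hne, ← Perm.mul_apply (π g) (π g), Perm.coe_inv,
          Equiv.symm_apply_apply]) _ rfl
    have := ((Commute.refl g).mul_right (Commute.refl g)).mul_right hr'
    rwa [mul_inv_cancel_left] at this
  -- the remaining factor
  obtain ⟨K, hK⟩ : ∃ K, K = D⁻¹ * g⁻¹ * (y : E) := ⟨_, rfl⟩
  have hKfix : ∀ w, π g w ≠ w → π K w = w := by
    intro w hw
    rw [hK, map_mul, map_mul, map_inv, map_inv, hD, hd, Perm.mul_apply, Perm.mul_apply, Perm.coe_inv, Perm.coe_inv,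
      Equiv.symm_apply_eq, Equiv.symm_apply_eq, dbl, Perm.mul_apply, gv]
    rw [gv] at hw
    by_cases w1 : w = a
    · subst w1; simp [hc, swap_apply_of_ne_of_ne, fa0.symm, fa1.symm, fa2.symm, fa3.symm]
    by_cases w2 : w = b
    · subst w2; simp [y1, swap_apply_of_ne_of_ne, nab.symm, fb0.symm, fb1.symm, fb2.symm, fb3.symm]
    by_cases w3 : w = ta
    · subst w3; simp [y2, swap_apply_of_ne_of_ne, nata.symm, nbta.symm, fta0.symm, fta1.symm, fta2.symm, fta3.symm]
    by_cases w4 : w = tb
    · subst w4; simp [y3, swap_apply_of_ne_of_ne, natb.symm, nbtb.symm, ntatb.symm, ftb0.symm, ftb1.symm, ftb2.symm,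
        ftb3.symm]
    by_cases w5 : w = f 0
    · subst w5; simp [hyf, swap_apply_of_ne_of_ne, f02, f03, fa1, fb1, fta1, ftb1, f01.symm]
    by_cases w6 : w = f 1
    · subst w6; simp [hyf, swap_apply_of_ne_of_ne, f12, f13, fa0, fb0, fta0, ftb0]
    simp [w1, w2, w3, w4, w5, w6] at hw
  have hgK : Commute g K := h.cover.commute_disjoint g (π K) (h.cover.even K) (fun w hw => by
    by_contra hne
    exact hw (hKfix w hne)) K rfl
  have hLD : Commute L D := h.cover.commute_disjoint L (π D) (h.cover.even D) (fun w hw => by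
    rw [hL, hl, Perm.mul_apply]
    have : w = f 0 ∨ w = f 1 ∨ w = f 2 ∨ w = f 3 := by
      by_contra hno
      simp only [not_or] at hno
      exact hw (by rw [hD, hd, dbl, Perm.mul_apply, swap_apply_of_ne_of_ne hno.2.2.1 hno.2.2.2,
        swap_apply_of_ne_of_ne hno.1 hno.2.1])
    rcases this with rfl | rfl | rfl | rfl <;>
      rw [swap_apply_of_ne_of_ne (nf _).2.1 (nf _).2.2.1, swap_apply_of_ne_of_ne (nf _).1 (nf _).2.1]) D rfl
  have hprod : dbl ta tb (f 0) (f 1) * dbl (f 0) (f 1) (f 2) (f 3) = dbl ta tb (f 2) (f 3) := by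
    simp only [dbl]
    rw [mul_assoc (swap ta tb), ← mul_assoc (swap (f 0) (f 1)) (swap (f 0) (f 1)), swap_mul_self, one_mul]
  have hMD : M * D * M⁻¹ = D * z := h.anti (by simp [ntatb, fta0.symm, fta1.symm, ftb0.symm, ftb1.symm]) (by simp)
    (hM.trans hm) (hD.trans hd) (by simp [ntatb, fta2.symm, fta3.symm, ftb2.symm, ftb3.symm]) hprod
  have hgy : g * (y : E) * g⁻¹ = (y : E) * z := by
    have hyK : (y : E) = g * D * K := by rw [hK]; group
    have hgD : g * D * g⁻¹ = D * z := by
      calc g * D * g⁻¹ = L * (M * D * M⁻¹) * L⁻¹ := by rw [hg]; group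
        _ = L * D * (z * L⁻¹) := by rw [hMD]; group
        _ = D * z := by rw [hLD.eq, (h.z_comm L⁻¹).eq]; group
    calc g * (y : E) * g⁻¹ = g * (g * D * g⁻¹) * (g * K * g⁻¹) := by rw [hyK]; group
      _ = g * D * (z * K) := by rw [hgD, hgK.eq, mul_inv_cancel_right]; group
      _ = (y : E) * z := by rw [hyK, (h.z_comm K).eq]; group
  let G0 : centralizer ({t} : Set E) := ⟨g, Subgroup.mem_centralizer_singleton_iff.mpr hgt.eq⟩
  -- a flip of two pairs
  obtain ⟨p', hp0, hps⟩ : ∃ p' : Fin 4, p' ≠ 0 ∧ p' ≠ s 0 := by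
    generalize s 0 = u
    revert u
    decide
  obtain ⟨q, hq⟩ := h.cover.onto (P.sw 0 * P.sw p') (sign_dbl (nodup_pairs P hp0.symm))
  let Q0 : centralizer ({t} : Set E) :=
    ⟨q, Subgroup.mem_centralizer_singleton_iff.mpr (h.two_pairs P hp0.symm hq).eq⟩
  have hQind : P.ind (toCent π t Q0) = 1 := Equiv.ext fun p => by
    by_cases h0 : p = 0
    · refine P.ind_eq _ (b := false) (c := true) ?_
      subst h0
      show π q _ = _
      rw [hq, Perm.mul_apply, sw_other P hp0.symm, sw_self]
      rfl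
    by_cases hp : p = p'
    · refine P.ind_eq _ (b := false) (c := true) ?_
      subst hp
      show π q _ = _
      rw [hq, Perm.mul_apply, sw_self, sw_other P h0]
      rfl
    refine P.ind_eq _ (b := false) (c := false) ?_
    show π q _ = _
    rw [hq, Perm.mul_apply, sw_other P hp, sw_other P h0]
    rfl
  have hy_ne : π ((Q0 * y * Q0⁻¹ : centralizer ({t} : Set E)) : E) a ≠ π (y : E) a := by
    show π (q * (y : E) * q⁻¹) a ≠ _
    have hqa : π q ta = a := by
      rw [hq, Perm.mul_apply, hta, sw_other P hp0.symm, sw_self]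
      rfl
    have hqi : (π q)⁻¹ a = ta := by rw [← hqa, Perm.coe_inv, Equiv.symm_apply_apply]
    have hqb : π q tb = tb := by
      rw [hq, Perm.mul_apply, htb, sw_other P hps.symm, sw_other P hs0]
    rw [map_mul, map_mul, map_inv, Perm.mul_apply, Perm.mul_apply, hqi, y2, hqb, hc]
    exact nbtb.symm
  have hG0 : G0 * y * G0⁻¹ = y * ⟨z, Subgroup.mem_centralizer_singleton_iff.mpr (h.z_cen t).symm⟩ :=
    Subtype.ext hgy
  let F : Fin 3 × Bool ⊕ Unit → centralizer ({t} : Set E) := fun x =>
    match x with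
    | .inl (i, false) => Gp ^ (i : ℕ) * y * (Gp ^ (i : ℕ))⁻¹
    | .inl (i, true) => Gp ^ (i : ℕ) * (G0 * y * G0⁻¹) * (Gp ^ (i : ℕ))⁻¹
    | .inr _ => Q0 * y * Q0⁻¹
  have hGz : ∀ i : Fin 3, P.ind (toCent π t (F (.inl (i, true)))) = R ^ (i : ℕ) * s * (R ^ (i : ℕ))⁻¹ := fun i => by
    simp only [F, map_mul, map_inv, map_pow, hGp]
    rw [← map_inv, ← map_mul, ← map_mul, ← map_inv (toCent π t), ← map_mul (toCent π t), ← map_mul (toCent π t), hG0,
      map_mul, map_mul]
    have : P.ind (toCent π t (⟨z, Subgroup.mem_centralizer_singleton_iff.mpr (h.z_cen t).symm⟩ :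
        centralizer ({t} : Set E))) = 1 := Equiv.ext fun p => P.ind_eq _ (b := false) (c := false) (by
      show π z _ = _
      rw [h.pi_z]; rfl)
    rw [this, mul_one, hs]
  have hGy : ∀ i : Fin 3, P.ind (toCent π t (F (.inl (i, false)))) = R ^ (i : ℕ) * s * (R ^ (i : ℕ))⁻¹ := fun i => by
    simp only [F, map_mul, map_inv, map_pow, hGp, ← hs]
  have hGq : P.ind (toCent π t (F (.inr ()))) = R ^ ((0 : Fin 3) : ℕ) * s * (R ^ ((0 : Fin 3) : ℕ))⁻¹ := by
    simp only [F, map_mul, map_inv, hQind, ← hs]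
    simp
  have hinl : ∀ i : Fin 3, F (.inl (i, false)) ≠ F (.inl (i, true)) := fun i e => by
    simp only [F] at e
    rw [hG0] at e
    exact h.mul_z_ne (y : E) (congrArg Subtype.val (mul_left_cancel (mul_right_cancel e))).symm
  have hinr : ∀ x, F (.inr ()) ≠ F (.inl x) := by
    rintro ⟨i, v⟩ e
    have e1 := congrArg (fun x => P.ind (toCent π t x)) e
    have hi : (0 : Fin 3) = i := by
      by_contra hne
      refine rot_distinct s hs2 hsf 0 i hne ?_
      cases v
      · exact hGq.symm.trans (e1.trans (hGy i))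
      · exact hGq.symm.trans (e1.trans (hGz i))
    subst hi
    refine hy_ne ?_
    have e2 := congrArg (fun x : centralizer ({t} : Set E) => π (x : E) a) e
    simp only [F] at e2
    cases v
    · simpa using e2
    · simp only [hG0] at e2
      simpa [map_mul, h.pi_z] using e2
  have hF : Function.Injective F := by
    rintro (⟨i, u⟩ | ⟨⟩) (⟨j, v⟩ | ⟨⟩) e
    · have e1 := congrArg (fun x => P.ind (toCent π t x)) e
      have hij : i = j := by
        by_contra hne
        refine rot_distinct s hs2 hsf i j hne ?_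
        cases u <;> cases v
        · exact (hGy i).symm.trans (e1.trans (hGy j))
        · exact (hGy i).symm.trans (e1.trans (hGz j))
        · exact (hGz i).symm.trans (e1.trans (hGy j))
        · exact (hGz i).symm.trans (e1.trans (hGz j))
      subst hij
      cases u <;> cases v
      exacts [rfl, absurd e (hinl i), absurd e.symm (hinl i), rfl]
    · exact absurd e.symm (hinr _)
    · exact absurd e (hinr _)
    · rfl
  have hsub : Set.range F ⊆ cls y := by
    rintro _ ⟨(⟨i, _ | _⟩ | ⟨⟩), rfl⟩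
    · exact ⟨Gp ^ (i : ℕ), rfl⟩
    · exact ⟨Gp ^ (i : ℕ) * G0, by simp only [F]; group⟩
    · exact ⟨Q0, rfl⟩
  have h7 := Set.ncard_le_ncard hsub (Set.toFinite _)
  rw [Set.ncard_range_of_injective hF] at h7
  simp at h7
  omega

end CfsgAltCentInv
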