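import Cfsg.Agent.Lib.AltCentInv.Infty
import Cfsg.Agent.Lib.AltCentInv.Twelve

/-!
From degree twelve on, no isomorphism of centralisers exchanges the central and a non-central involution.
-/

set_option autoImplicit false
set_option linter.unusedSectionVars false

namespace CfsgAltCentInv

open Equiv Subgroup

variable {E : Type*} [Group E] [Finite E] {n : ℕ} {π : E →* Perm (Fin n)} {z t s : E}

/-- The moved pairs of a non-central involution come in fours. -/
theorem Cov.exists_k (h : Cov π z) (ht : t * t = 1) (ht1 : π t ≠ 1) :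
    ∃ k, 4 ∣ k ∧ 4 ≤ k ∧ 2 * k ≤ n ∧ Nonempty (Pairs (π t) k) := by
  classical
  have h2 : π t * π t = 1 := by rw [← map_mul, ht, map_one]
  obtain ⟨k, hk, hP⟩ := exists_pairs h2
  have h8 := h.four_dvd t h2 ht
  have hpos : 0 < (π t).support.card :=
    Finset.card_pos.mpr (Finset.nonempty_iff_ne_empty.mpr fun e => ht1 (Perm.support_eq_empty_iff.mp e))
  have hle : (π t).support.card ≤ n := (Finset.card_le_univ _).trans (Fintype.card_fin n).le
  exact ⟨k, by omega, by omega, by omega, hP⟩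

/-- A root with a small class is carried to the other centraliser. -/
theorem move_root {z s t : E} {N : ℕ} (hzs : z ∈ centralizer ({s} : Set E)) (f : centralizer ({s} : Set E) ≃* centralizer ({t} : Set E))
    (hf : (f ⟨z, hzs⟩ : E) = t) (x : centralizer ({s} : Set E)) (hx : (x : E) * x = z) (hN : (cls x).ncard ≤ N) :
    ∃ y : centralizer ({t} : Set E), (y : E) * y = t ∧ (cls y).ncard ≤ N :=
  ⟨f x, by rw [← Subgroup.coe_mul, ← map_mul, show x * x = ⟨z, hzs⟩ from Subtype.ext hx, hf],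
    (cls_ncard f x).le.trans hN⟩

/-- No isomorphism of centralisers exchanges the two kinds of involutions. -/
theorem Cov.no_swap (h : Cov π z) (hn : 12 ≤ n) (ht : t * t = 1) (ht1 : π t ≠ 1) (hs : s * s = 1) (hs1 : π s ≠ 1)
    (hzs : z ∈ centralizer ({s} : Set E)) (hzt : z ∈ centralizer ({t} : Set E))
    (f : centralizer ({s} : Set E) ≃* centralizer ({t} : Set E)) (hfz : (f ⟨z, hzs⟩ : E) = t)
    (hfs : (f ⟨s, Subgroup.mem_centralizer_singleton_iff.mpr rfl⟩ : E) = z) : False := by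
  obtain ⟨a, ha4, ha, hna, ⟨P⟩⟩ := h.exists_k ht ht1
  obtain ⟨b, hb4, hb, hnb, ⟨Q⟩⟩ := h.exists_k hs hs1
  have hfz' : (f.symm ⟨z, hzt⟩ : E) = s := by
    rw [show (⟨z, hzt⟩ : centralizer ({t} : Set E)) = f ⟨s, Subgroup.mem_centralizer_singleton_iff.mpr rfl⟩ from
      Subtype.ext hfs.symm, MulEquiv.symm_apply_apply]
  have h1 : 8 ≤ a → a * (a - 1) < b * (b - 1) := fun h8 => by
    obtain ⟨x, hx, hN⟩ := h.z_root Q (by omega)
    obtain ⟨y, hy, hyN⟩ := move_root hzs f hfz x hx hN
    exact lt_of_lt_of_le (h.t_root P h8 hy) hyN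
  have h2 : 8 ≤ b → b * (b - 1) < a * (a - 1) := fun h8 => by
    obtain ⟨x, hx, hN⟩ := h.z_root P (by omega)
    obtain ⟨y, hy, hyN⟩ := move_root hzt f.symm hfz' x hx hN
    exact lt_of_lt_of_le (h.t_root Q h8 hy) hyN
  by_cases ha8 : 8 ≤ a
  · have := h1 ha8
    by_cases hb8 : 8 ≤ b
    · exact lt_asymm this (h2 hb8)
    · have : a * (a - 1) ≥ 8 * 7 := Nat.mul_le_mul ha8 (by omega)
      obtain rfl : b = 4 := by omega
      omega
  obtain rfl : a = 4 := by omega
  by_cases hb8 : 8 ≤ b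
  · have := h2 hb8
    have : b * (b - 1) ≥ 8 * 7 := Nat.mul_le_mul hb8 (by omega)
    omega
  obtain rfl : b = 4 := by omega
  by_cases h13 : 13 ≤ n
  · refine h.t_not_derived P ?_
    have hd := map_derivedSeries_le_derivedSeries f.toMonoidHom 4 ⟨_, h.z_derived Q h13 hzs 4, rfl⟩
    rwa [show (⟨t, Subgroup.mem_centralizer_singleton_iff.mpr rfl⟩ : centralizer ({t} : Set E)) = f ⟨z, hzs⟩ from
      Subtype.ext hfz.symm]
  · obtain rfl : n = 12 := by omega
    obtain ⟨x, hx, hN⟩ := h.twelve_z Q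
    obtain ⟨y, hy, hyN⟩ := move_root hzs f hfz x hx hN
    exact absurd (h.twelve_t P hy) (not_lt.mpr hyN)

end CfsgAltCentInv
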